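import Cfsg.Agent.Lib.ChevStr.RootData

/-!
Checks on the tables of a Chevalley datum used to show that a normal subgroup of `P_J` inside `U_J`
which meets every fundamental root outside `J` is all of `U_J`.
-/

set_option autoImplicit false

namespace CfsgLib.WeakUnip

open Cfsg.Lie

variable (D : ChevalleyDatum) (α : ℕ → Fin D.rank → ℤ)

/-- The height of a root. -/
def ht (r : ℕ) : ℤ := ((List.finRange D.rank).map (α r)).sum

/-- An exponent which is invisible only over very small fields. -/
def detOK (two : Bool) (d : ℤ) : Bool := d.natAbs == 1 || (two && d.natAbs == 2)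

/-- The terms of `[x_k, x_g]` up to the height of `r`. -/
def lowTerms (r g : ℕ) (k : Fin D.rank) : List (ℕ × ℤ × ℕ × ℕ) :=
  (D.commTerms g (D.simple k.val)).filter fun c => decide (ht D α c.1 ≤ ht D α r)

/-- A term with root `r`, unit coefficient, linear in one parameter, separable from the others. -/
def isTarget (two : Bool) (r : ℕ) (T : List (ℕ × ℤ × ℕ × ℕ)) (c : ℕ × ℤ × ℕ × ℕ) : Bool :=
  decide (c.1 = r) && decide (c.2.1.natAbs = 1) && decide (c.2.2.1 = 1 ∨ c.2.2.2 = 1) &&
    T.all fun c' => decide (c' = c) ||
      detOK two ((c.2.2.1 : ℤ) * c'.2.2.2 - (c'.2.2.1 : ℤ) * c.2.2.2)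

/-- The root `r` with `s` in its support is reached from the root `g` and the fundamental root `k`. -/
def stepOK (two : Bool) (r : ℕ) (s : Fin D.rank) (g : ℕ) (k : Fin D.rank) : Bool :=
  decide (D.IsPosRoot g) && decide (α g s ≠ 0) && decide (D.simple k.val ≠ g) &&
  decide (ht D α g < ht D α r) &&
  (lowTerms D α r g k).any (isTarget two r (lowTerms D α r g k)) &&
  decide (lowTerms D α r g k).Nodup &&
  ((lowTerms D α r g k).all fun c => (lowTerms D α r g k).all fun c' =>
    decide (c = c') || decide (ht D α r < ht D α c.1 + ht D α c'.1))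

/-- Checking a table of witnesses `(r, s, g, k)` and that it covers all cases. -/
def stepCheck (two : Bool) (tab : List (ℕ × ℕ × ℕ × ℕ)) : Bool :=
  (tab.all fun e => if h : e.2.1 < D.rank ∧ e.2.2.2 < D.rank then
    stepOK D α two e.1 ⟨e.2.1, h.1⟩ e.2.2.1 ⟨e.2.2.2, h.2⟩ else false) &&
  decide (tab.map (fun e => (e.1, e.2.1)) =
    ((List.range D.nroots).filter fun r => decide (D.IsPosRoot r) && decide (2 ≤ ht D α r)).flatMap
      fun r => ((List.finRange D.rank).filter fun s => decide (α r s ≠ 0)).map fun s => (r, s.val))

/-- Coefficients of a cocharacter supported on two fundamental roots. -/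
def sepOK (two : Bool) (i s k k' : Fin D.rank) (a b : ℤ) : Bool :=
  decide (a * D.cartan k.val (D.simple i.val) + b * D.cartan k'.val (D.simple i.val) = 0) &&
    detOK two (a * D.cartan k.val (D.simple s.val) + b * D.cartan k'.val (D.simple s.val))

/-- Two fundamental roots are separated by the torus. -/
def baseCheck (two : Bool) : Bool :=
  (List.finRange D.rank).all fun i => (List.finRange D.rank).all fun s => decide (s = i) ||
    (List.finRange D.rank).any fun k => (List.finRange D.rank).any fun k' =>
      ([0, 1, 2, 3] : List ℤ).any fun a => ([-3, -2, -1, 0, 1, 2, 3] : List ℤ).any fun b =>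
        sepOK D two i s k k' a b

end CfsgLib.WeakUnip
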