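import Mathlib

/-!
Isolating one coefficient of an identity `∏ f_m(a_m μ_m(p)) = 1`, valid for all parameters `p`, in
pairwise commuting one-parameter subgroups.
-/

set_option autoImplicit false

namespace CfsgLib.WeakUnip

variable {F : Type*} [Field F] {Q : Type*} [Group Q] {ι : Type*}

/-- The product of the values of one-parameter subgroups along a list. -/
def listVal (f : ι → F → Q) (l : List ι) (x : ι → F) : Q := (l.map fun m => f m (x m)).prod

theorem listVal_add (f : ι → F → Q) : ∀ l : List ι,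
    (∀ m ∈ l, ∀ a b, f m (a + b) = f m a * f m b) →
    (∀ m ∈ l, ∀ m' ∈ l, ∀ a b, Commute (f m a) (f m' b)) →
    ∀ x y : ι → F, listVal f l (x + y) = listVal f l x * listVal f l y := by
  intro l
  induction l with
  | nil => intro _ _ x y; simp [listVal]
  | cons m l ih =>
    intro hadd hcomm x y
    have h1 := ih (fun m' h => hadd m' (List.mem_cons_of_mem _ h))
      (fun m' h m'' h' => hcomm m' (List.mem_cons_of_mem _ h) m'' (List.mem_cons_of_mem _ h')) x y
    have h2 : Commute (f m (y m)) (listVal f l x) := Commute.list_prod_right _ _ fun q hq => by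
      obtain ⟨m', hm', rfl⟩ := List.mem_map.1 hq
      exact hcomm m (List.mem_cons_self ..) m' (List.mem_cons_of_mem _ hm') _ _
    simp only [listVal, List.map_cons, List.prod_cons, Pi.add_apply] at h1 h2 ⊢
    rw [h1, hadd m (List.mem_cons_self ..)]
    exact Commute.mul_mul_mul_comm h2 _ _

theorem map_zero_of_add {f : F → Q} (h : ∀ a b, f (a + b) = f a * f b) : f 0 = 1 := by
  have h1 := h 0 0
  rw [add_zero] at h1
  exact left_eq_mul.1 h1

theorem listVal_single [DecidableEq ι] (f : ι → F → Q) : ∀ l : List ι, l.Nodup →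
    (∀ m ∈ l, ∀ a b, f m (a + b) = f m a * f m b) → ∀ (x : ι → F) (m₀ : ι),
    (∀ m ∈ l, m ≠ m₀ → x m = 0) →
    listVal f l x = if m₀ ∈ l then f m₀ (x m₀) else 1 := by
  intro l
  induction l with
  | nil => intro _ _ x m₀ _; simp [listVal]
  | cons m l ih =>
    intro hnd hadd x m₀ hx
    obtain ⟨hml, hnd'⟩ := List.nodup_cons.1 hnd
    have h1 := ih hnd' (fun m' h => hadd m' (List.mem_cons_of_mem _ h)) x m₀
      (fun m' h => hx m' (List.mem_cons_of_mem _ h))
    simp only [listVal, List.map_cons, List.prod_cons] at h1 ⊢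
    rw [h1]
    by_cases he : m = m₀
    · subst he
      simp [hml]
    · rw [hx m (List.mem_cons_self ..) he, map_zero_of_add (hadd m (List.mem_cons_self ..)), one_mul]
      simp [Ne.symm he]

/-- If the identity holds for a family of monomials, and every monomial other than that of `m₀` can
be separated from it by a difference of two substitutions, then `f m₀` is trivial on the values of
a non-zero multiple of its monomial. -/
theorem isolate {P : Type*} (f : ι → F → Q) (l : List ι) (hnd : l.Nodup)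
    (hadd : ∀ m ∈ l, ∀ a b, f m (a + b) = f m a * f m b)
    (hcomm : ∀ m ∈ l, ∀ m' ∈ l, ∀ a b, Commute (f m a) (f m' b))
    (mon : ι → P → F) (a : ι → F) (m₀ : ι) (hm₀ : m₀ ∈ l) (ha : a m₀ ≠ 0)
    (hsep : ∀ m ∈ l, m ≠ m₀ → ∃ (σ τ : P → P) (d : ι → F), d m = 0 ∧ d m₀ ≠ 0 ∧
      ∀ m' p, mon m' (σ p) - mon m' (τ p) = d m' * mon m' p)
    (h : ∀ p, listVal f l (fun m => a m * mon m p) = 1) :
    ∃ c : F, c ≠ 0 ∧ ∀ p, f m₀ (c * mon m₀ p) = 1 := by
  classical
  have key : ∀ rem : List ι, (∀ m ∈ rem, m ∈ l) → ∃ a' : ι → F, a' m₀ ≠ 0 ∧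
      (∀ p, listVal f l (fun m => a' m * mon m p) = 1) ∧ ∀ m ∈ rem, m ≠ m₀ → a' m = 0 := by
    intro rem
    induction rem with
    | nil => exact fun _ => ⟨a, ha, h, fun _ hm => absurd hm List.not_mem_nil⟩
    | cons m rem ih =>
      intro hsub
      obtain ⟨a', ha', h', hz⟩ := ih fun m' hm' => hsub m' (List.mem_cons_of_mem _ hm')
      by_cases hm : m = m₀
      · exact ⟨a', ha', h', fun m' hm' hne => hz m' ((List.mem_cons.1 hm').resolve_left
          fun e => hne (e.trans hm)) hne⟩
      · obtain ⟨σ, τ, d, hd, hd₀, hdiff⟩ := hsep m (hsub m (List.mem_cons_self ..)) hm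
        refine ⟨fun k => a' k * d k, mul_ne_zero ha' hd₀, fun p => ?_, fun m' hm' hne => ?_⟩
        · have e : (fun k => a' k * mon k (σ p)) =
              (fun k => a' k * d k * mon k p) + fun k => a' k * mon k (τ p) := by
            funext k
            rw [Pi.add_apply, mul_assoc, ← hdiff k p, mul_sub, sub_add_cancel]
          have h1 := h' (σ p)
          rw [e, listVal_add f l hadd hcomm, h' (τ p), mul_one] at h1
          exact h1
        · rcases List.mem_cons.1 hm' with rfl | hm'
          · simp [hd]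
          · simp [hz m' hm' hne]
  obtain ⟨a', ha', h', hz⟩ := key l fun _ hm => hm
  refine ⟨a' m₀, ha', fun p => ?_⟩
  have h1 := h' p
  rw [listVal_single f l hnd hadd _ m₀ fun m hm hne => by simp [hz m hm hne], if_pos hm₀] at h1
  exact h1

/-- Every element of a finite field is a sum of two squares. -/
theorem exists_sum_two_sq [Finite F] (x : F) : ∃ a b : F, a ^ 2 + b ^ 2 = x := by
  have := Fintype.ofFinite F
  by_cases h2 : ringChar F = 2
  · obtain ⟨a, ha⟩ := FiniteField.isSquare_of_char_two h2 x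
    exact ⟨a, 0, by rw [ha]; ring⟩
  · open Polynomial in
    obtain ⟨a, b, hab⟩ := FiniteField.exists_root_sum_quadratic (R := F)
      (f := X ^ 2) (g := X ^ 2 - C x) (degree_X_pow 2) (degree_X_pow_sub_C two_pos x)
      (FiniteField.odd_card_of_char_ne_two h2)
    refine ⟨a, b, ?_⟩
    simp only [Polynomial.eval_pow, Polynomial.eval_X, Polynomial.eval_sub, Polynomial.eval_C] at hab
    linear_combination hab

/-- An additive map vanishing on a non-zero multiple of all squares vanishes. -/
theorem eq_one_of_squares [Finite F] (f : F → Q) (hadd : ∀ a b, f (a + b) = f a * f b) {c : F}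
    (hc : c ≠ 0) (h : ∀ t : F, f (c * t ^ 2) = 1) (x : F) : f x = 1 := by
  obtain ⟨a, b, hab⟩ := exists_sum_two_sq (x / c)
  have : x = c * a ^ 2 + c * b ^ 2 := by rw [← mul_add, hab, mul_div_cancel₀ x hc]
  rw [this, hadd, h, h, mul_one]

/-- A non-zero scalar which is neither `1` nor, if asked, `-1`. -/
theorem exists_scalar [Fintype F] (two : Bool) (h2 : Fintype.card F ≠ 2)
    (h3 : two = true → Fintype.card F ≠ 3) :
    ∃ u : Fˣ, ∀ d : ℤ, (d.natAbs = 1 ∨ (two = true ∧ d.natAbs = 2)) → u ^ d ≠ 1 := by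
  classical
  obtain ⟨g, hg⟩ := IsCyclic.exists_generator (α := Fˣ)
  have ho : orderOf g = Fintype.card F - 1 := by
    rw [orderOf_eq_card_of_forall_mem_zpowers hg, Nat.card_eq_fintype_card, Fintype.card_units]
  have hF : 2 ≤ Fintype.card F := Fintype.one_lt_card
  refine ⟨g, fun d hd h => ?_⟩
  have h1 := orderOf_dvd_iff_zpow_eq_one.2 h
  rw [ho] at h1
  have h4 : Fintype.card F - 1 ∣ d.natAbs := by simpa using Int.natAbs_dvd_natAbs.2 h1
  rcases hd with hd | ⟨ht, hd⟩
  · rw [hd, Nat.dvd_one] at h4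
    omega
  · rw [hd] at h4
    have := Nat.le_of_dvd two_pos h4
    have := h3 ht
    omega

end CfsgLib.WeakUnip
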