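import Cfsg.Agent.Lib.ChevStr.Parabolic
import Cfsg.Agent.Lib.WeakUnip.Check
import Cfsg.Agent.Lib.WeakUnip.Kill

/-!
A `B`-invariant subgroup of `U_J` lying in no `U_p`, `p` outside `J`, is `U_J`, given the checks.
-/

set_option autoImplicit false

namespace CfsgLib.WeakUnip

universe v

open Cfsg.Lie CfsgLib.ChevStr
open scoped MatrixGroups

variable {D : ChevalleyDatum} {F : Type v} [Field F] (C : ChevCore D F)

theorem ht_eq (r : ℕ) : ht D C.R.α r = heightHom _ (C.R.α r) := by
  rw [ht, heightHom_apply, Fin.sum_univ_def]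

/-- The roots outside the span of `J` of height at least `h`. -/
def Lev (J : Set ℕ) (h : ℤ) : Set ℕ :=
  {r | D.IsPosRoot r ∧ (∃ i : Fin D.rank, i.val ∉ J ∧ C.R.α r i ≠ 0) ∧ h ≤ ht D C.R.α r}

variable {J : Set ℕ}

theorem combo_lev {r s k : ℕ} {a b : ℤ} (hr : r ∈ Lev C J a) (hs : D.IsPosRoot s)
    (hb : b ≤ ht D C.R.α s) (hk : C.R.IsCombo r s k) : k ∈ Lev C J (a + b) := by
  have hpos := C.R.combo_pos hr.1 hs hk
  obtain ⟨hkn, i, j, hi, hj, hab⟩ := hk
  obtain ⟨hr1, ⟨m, hmJ, hm⟩, hra⟩ := hr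
  refine ⟨hpos, ⟨m, hmJ, ?_⟩, ?_⟩
  · have h1 : 0 ≤ C.R.α r m := ((C.R.isPos_iff r).1 hr1).2 m
    have h2 : 0 ≤ C.R.α s m := ((C.R.isPos_iff s).1 hs).2 m
    rw [hab]
    simp only [Pi.add_apply, Pi.smul_apply, smul_eq_mul]
    have h3 : (1 : ℤ) ≤ C.R.α r m := by omega
    have h4 : (1 : ℤ) ≤ i := by omega
    nlinarith
  · have h1 := C.R.one_le_height_of_pos hr1
    have h2 := C.R.one_le_height_of_pos hs
    rw [ht_eq] at hra hb ⊢
    rw [hab, map_add, map_zsmul, map_zsmul, smul_eq_mul, smul_eq_mul]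
    have h3 : (1 : ℤ) ≤ i := by omega
    have h4 : (1 : ℤ) ≤ j := by omega
    nlinarith

theorem combo_symm {r s k : ℕ} (h : C.R.IsCombo r s k) : C.R.IsCombo s r k := by
  obtain ⟨hk, a, b, ha, hb, hab⟩ := h
  exact ⟨hk, b, a, hb, ha, by rw [hab, add_comm]⟩

theorem lev_mono {a b : ℤ} (h : a ≤ b) : Lev C J b ⊆ Lev C J a :=
  fun _ hr => ⟨hr.1, hr.2.1, h.trans hr.2.2⟩

theorem isClosed_lev {a : ℤ} : C.R.IsClosed (Lev C J a) := by
  refine ⟨fun r hr => hr.1, fun r hr s hs k hk => ?_⟩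
  refine lev_mono C ?_ (combo_lev C hr hs.1 le_rfl hk)
  have := C.R.one_le_height_of_pos hs.1
  rw [ht_eq]
  omega

theorem lev_conj_comm {r s : ℕ} {a : ℤ} (hr : r ∈ Lev C J a) (hs : D.IsPosRoot s) (t u : F) :
    C.xGL s u * C.xGL r t * (C.xGL s u)⁻¹ * (C.xGL r t)⁻¹ ∈
      C.Ucl (Lev C J (a + ht D C.R.α s)) := by
  by_cases hrs : r = s
  · subst hrs
    rw [← C.xGL_add, C.xGL_inv, C.xGL_inv, ← C.xGL_add, ← C.xGL_add,
      show u + t + -u + -t = (0 : F) by ring, C.xGL_zero]
    exact one_mem _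
  · have hne : r ≠ D.neg s := fun e => C.R.not_pos_and_neg hr.1
      (by rw [e, C.R.isNeg_neg_iff hs.1]; exact hs)
    have h1 := C.xGL_comm hs.1 hr.1.1 hrs hne u t
    have hW : C.wordGL (D.commWord F s r u t) ∈ C.Ucl (Lev C J (a + ht D C.R.α s)) :=
      C.commWord_mem (fun k hk => combo_lev C hr hs le_rfl (combo_symm C hk)) u t
    have hN : ∀ p z, D.IsPosRoot p → C.xGL p z ∈
        Subgroup.normalizer (C.Ucl (Lev C J (a + ht D C.R.α s)) : Set (GL D.Idx F)) := by
      intro p z hp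
      refine C.pos_normalizes hp (fun q hq => hq.1) (fun q hq k hk => ?_) z
      refine lev_mono C ?_ (combo_lev C hq hp le_rfl (combo_symm C hk))
      have := C.R.one_le_height_of_pos hp
      rw [ht_eq C p]
      omega
    have e : C.xGL s u * C.xGL r t * (C.xGL s u)⁻¹ * (C.xGL r t)⁻¹ =
        (C.xGL s u * C.xGL r t) * (C.wordGL (D.commWord F s r u t))⁻¹ *
          (C.xGL s u * C.xGL r t)⁻¹ := by
      calc _ = C.xGL s u * C.xGL r t * (C.xGL r t * C.xGL s u)⁻¹ := by group
        _ = _ := by rw [h1]; group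
    rw [e]
    exact (Subgroup.mem_normalizer_iff.1 (mul_mem (hN s u hs) (hN r t hr.1)) _).1 (inv_mem hW)

/-- The subgroup `X` together with the roots of height at least `h`. -/
def Mh (X : Subgroup (GL D.Idx F)) (J : Set ℕ) (h : ℤ) : Subgroup (GL D.Idx F) :=
  X ⊔ C.Ucl (Lev C J h)

variable {X : Subgroup (GL D.Idx F)}
variable (hB : D.borelSubgroup F ≤ Subgroup.normalizer (X : Set (GL D.Idx F)))

include hB in
theorem pos_normalizes_Mh (h : ℤ) :
    D.posUnipotent F ≤ Subgroup.normalizer (Mh C X J h : Set (GL D.Idx F)) := by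
  refine C.posUnipotent_le fun p z hp => ?_
  have h1 := hB (C.pos_mem_borel hp z)
  have h2 : C.xGL p z ∈ Subgroup.normalizer (C.Ucl (Lev C J h) : Set (GL D.Idx F)) := by
    refine C.pos_normalizes hp (fun q hq => hq.1) (fun q hq k hk => ?_) z
    refine lev_mono C ?_ (combo_lev C hq hp le_rfl (combo_symm C hk))
    have := C.R.one_le_height_of_pos hp
    rw [ht_eq C p]
    omega
  set g := C.xGL p z
  have key : ∀ g, g ∈ Subgroup.normalizer (X : Set (GL D.Idx F)) →
      g ∈ Subgroup.normalizer (C.Ucl (Lev C J h) : Set (GL D.Idx F)) →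
      ∀ x ∈ Mh C X J h, g * x * g⁻¹ ∈ Mh C X J h := by
    intro g hg hg' x hx
    have hle : Mh C X J h ≤ (Mh C X J h).comap (MulAut.conj g).toMonoidHom :=
      sup_le (fun y hy => Subgroup.mem_sup_left ((Subgroup.mem_normalizer_iff.1 hg y).1 hy))
        (fun y hy => Subgroup.mem_sup_right ((Subgroup.mem_normalizer_iff.1 hg' y).1 hy))
    exact hle hx
  refine Subgroup.mem_normalizer_iff.2 fun x => ⟨key g h1 h2 x, fun hx => ?_⟩
  have := key g⁻¹ (inv_mem h1) (inv_mem h2) _ hx
  simpa [mul_assoc] using this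

variable (hXU : X ≤ D.posUnipotent F)

include hXU in
theorem Mh_le (h : ℤ) : Mh C X J h ≤ D.posUnipotent F :=
  sup_le hXU (C.Ucl_le fun _ hr t => C.xGL_mem_posUnipotent hr.1 t)

include hB hXU in
theorem comm_mem_Mh {h : ℤ} {g : GL D.Idx F} (hg : g ∈ Mh C X J h) {p : ℕ} (hp : D.IsPosRoot p)
    (u : F) : C.xGL p u * g * (C.xGL p u)⁻¹ * g⁻¹ ∈ Mh C X J (h + 1) := by
  set v := C.xGL p u
  set M := Mh C X J (h + 1)
  have hUM := pos_normalizes_Mh C hB (J := J) (h + 1)
  let K : Subgroup (GL D.Idx F) :=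
    { carrier := {g | g ∈ D.posUnipotent F ∧ v * g * v⁻¹ * g⁻¹ ∈ M}
      one_mem' := ⟨one_mem _, by simp⟩
      mul_mem' := fun {a b} ha hb => ⟨mul_mem ha.1 hb.1, by
        have e : v * (a * b) * v⁻¹ * (a * b)⁻¹ =
            (v * a * v⁻¹ * a⁻¹) * (a * (v * b * v⁻¹ * b⁻¹) * a⁻¹) := by group
        rw [e]
        exact mul_mem ha.2 ((Subgroup.mem_normalizer_iff.1 (hUM ha.1) _).1 hb.2)⟩
      inv_mem' := fun {a} ha => ⟨inv_mem ha.1, by
        have e : v * a⁻¹ * v⁻¹ * (a⁻¹)⁻¹ = a⁻¹ * (v * a * v⁻¹ * a⁻¹)⁻¹ * (a⁻¹)⁻¹ := by group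
        rw [e]
        exact (Subgroup.mem_normalizer_iff.1 (hUM (inv_mem ha.1)) _).1 (inv_mem ha.2)⟩ }
  have hle : Mh C X J h ≤ K := by
    refine sup_le (fun x hx => ⟨hXU hx, Subgroup.mem_sup_left (mul_mem
      ((Subgroup.mem_normalizer_iff.1 (hB (C.pos_mem_borel hp u)) x).1 hx) (inv_mem hx))⟩) ?_
    refine C.Ucl_le fun r hr t => ⟨C.xGL_mem_posUnipotent hr.1 t, ?_⟩
    refine Subgroup.mem_sup_right (C.Ucl_mono (lev_mono C ?_) (lev_conj_comm C hr hp t u))
    have := C.R.one_le_height_of_pos hp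
    rw [ht_eq C p]
    omega
  exact (hle hg).2

theorem prod_filter_eq {A Q : Type*} [Group Q] (g : A → Q) (p : A → Bool) : ∀ l : List A,
    (∀ c ∈ l, p c = false → g c = 1) → ((l.filter p).map g).prod = (l.map g).prod := by
  intro l
  induction l with
  | nil => simp
  | cons a l ih =>
    intro h
    have ih' := ih fun c hc => h c (List.mem_cons_of_mem _ hc)
    cases hpa : p a with
    | false => simp [List.filter_cons, hpa, ih', h a (List.mem_cons_self ..) hpa]
    | true => simp [List.filter_cons, hpa, ih']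

theorem detOK_iff {two : Bool} {d : ℤ} :
    detOK two d = true → d.natAbs = 1 ∨ (two = true ∧ d.natAbs = 2) := by
  simp [detOK]

/-- The filtration of `U` through `M`: a quotient in which the roots of small height commute. -/
theorem exists_quot (h : ℤ) (hB : D.borelSubgroup F ≤ Subgroup.normalizer (X : Set (GL D.Idx F))) :
    ∃ (Q : Type v) (_ : Group Q) (π : D.posUnipotent F →* Q),
      ∀ g : D.posUnipotent F, π g = 1 ↔ (g : GL D.Idx F) ∈ Mh C X J h := by
  haveI : ((Mh C X J h).subgroupOf (D.posUnipotent F)).Normal :=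
    ⟨fun g hg u => by
      rw [Subgroup.mem_subgroupOf] at hg ⊢
      exact (Subgroup.mem_normalizer_iff.1 (pos_normalizes_Mh C hB h u.2) _).1 hg⟩
  exact ⟨_, inferInstance, QuotientGroup.mk' ((Mh C X J h).subgroupOf (D.posUnipotent F)),
    fun g => QuotientGroup.eq_one_iff g⟩

include hB hXU in
theorem step_mem [Fintype F] {two : Bool} (h2 : Fintype.card F ≠ 2)
    (h3 : two = true → Fintype.card F ≠ 3) {r g : ℕ} {s k : Fin D.rank} (hr : D.IsPosRoot r)
    (hsJ : s.val ∉ J) (hok : stepOK D C.R.α two r s g k = true)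
    (hg : ∀ t, C.xGL g t ∈ Mh C X J (ht D C.R.α r)) (x : F) :
    C.xGL r x ∈ Mh C X J (ht D C.R.α r + 1) := by
  classical
  simp only [stepOK, Bool.and_eq_true, decide_eq_true_eq, List.any_eq_true, List.all_eq_true,
    Bool.or_eq_true] at hok
  obtain ⟨⟨⟨⟨⟨⟨hgpos, hgs⟩, hgk⟩, -⟩, ⟨c₀, hc₀, htar⟩⟩, hnd⟩, hsum⟩ := hok
  simp only [isTarget, Bool.and_eq_true, decide_eq_true_eq, List.all_eq_true,
    Bool.or_eq_true] at htar
  obtain ⟨⟨⟨hc₀r, hc₀u⟩, hlin⟩, hdet⟩ := htar
  set h := ht D C.R.α r with hh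
  have hgL : g ∈ Lev C J 1 := ⟨hgpos, ⟨s, hsJ, hgs⟩, by
    rw [ht_eq]; exact C.R.one_le_height_of_pos hgpos⟩
  have hterm : ∀ c ∈ D.commTerms g (D.simple k.val), c.1 ∈ Lev C J (ht D C.R.α c.1) := by
    intro c hc
    obtain ⟨hn, hi, hj, hab⟩ := C.R.commTerms_spec hc
    obtain ⟨h4, h5, -⟩ := combo_lev C hgL (C.R.simple_pos k) le_rfl ⟨hn, _, _, hi, hj, hab⟩
    exact ⟨h4, h5, le_rfl⟩
  set T := lowTerms D C.R.α r g k with hT
  have hTsub : ∀ c ∈ T, c ∈ D.commTerms g (D.simple k.val) ∧ ht D C.R.α c.1 ≤ h := by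
    intro c hc
    rw [hT, lowTerms, List.mem_filter] at hc
    exact ⟨hc.1, by simpa using hc.2⟩
  obtain ⟨Q, _, π, hπ⟩ := exists_quot C (J := J) (h + 1) hB
  let f : ℕ × ℤ × ℕ × ℕ → F → Q := fun c z =>
    if hz : C.xGL c.1 z ∈ D.posUnipotent F then π ⟨_, hz⟩ else 1
  have hmem : ∀ c ∈ D.commTerms g (D.simple k.val), ∀ z, C.xGL c.1 z ∈ D.posUnipotent F :=
    fun c hc z => C.xGL_mem_posUnipotent (hterm c hc).1 z
  have hf : ∀ c (hc : c ∈ D.commTerms g (D.simple k.val)) z, f c z = π ⟨_, hmem c hc z⟩ :=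
    fun c hc z => dif_pos _
  have hadd : ∀ c ∈ T, ∀ a b, f c (a + b) = f c a * f c b := by
    intro c hc a b
    rw [hf c (hTsub c hc).1, hf c (hTsub c hc).1, hf c (hTsub c hc).1, ← map_mul]
    exact congrArg π (Subtype.ext (C.xGL_add c.1 a b))
  have hcomm : ∀ c ∈ T, ∀ c' ∈ T, ∀ a b, Commute (f c a) (f c' b) := by
    intro c hc c' hc' a b
    rw [hf c (hTsub c hc).1, hf c' (hTsub c' hc').1]
    refine (commutatorElement_eq_one_iff_commute).1 ?_
    rw [← map_commutatorElement, hπ]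
    have h1 := lev_conj_comm C (hterm c' (hTsub c' hc').1) (hterm c (hTsub c hc).1).1 b a
    rcases hsum c hc c' hc' with he | hlt
    · subst he
      simp [commutatorElement_def, ← C.xGL_add, C.xGL_inv, C.xGL_zero]
    · exact Subgroup.mem_sup_right (C.Ucl_mono (lev_mono C (by omega)) h1)
  obtain ⟨lam, hlam⟩ := exists_scalar (F := F) two h2 h3
  have hW : ∀ p : F × F, listVal f T
      (fun c => ((c.2.1 : F) * (-1) ^ c.2.2.1) * (p.1 ^ c.2.2.1 * p.2 ^ c.2.2.2)) = 1 := by
    intro p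
    have hne : D.simple k.val ≠ D.neg g := fun e => C.R.not_pos_and_neg (C.R.simple_pos k)
      (by rw [e, C.R.isNeg_neg_iff hgpos.1]; exact hgpos)
    have hcm := comm_mem_Mh C hB hXU (hg p.1) (C.R.simple_pos k) p.2
    have h1 := C.xGL_comm hgpos.1 (C.R.simple_lt k) hgk hne p.1 p.2
    have hWU : C.wordGL (D.commWord F g (D.simple k.val) p.1 p.2) ∈ D.posUnipotent F := by
      refine Subgroup.list_prod_mem _ fun y hy => ?_
      simp only [List.mem_map, ChevalleyDatum.commWord] at hy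
      obtain ⟨q, ⟨c, hc, rfl⟩, rfl⟩ := hy
      exact hmem c hc _
    have hWM : C.wordGL (D.commWord F g (D.simple k.val) p.1 p.2) ∈ Mh C X J (h + 1) := by
      set v := C.xGL (D.simple k.val) p.2
      set y := C.xGL g p.1
      have e : C.wordGL (D.commWord F g (D.simple k.val) p.1 p.2) =
          (y * v)⁻¹ * (v * y * v⁻¹ * y⁻¹) * ((y * v)⁻¹)⁻¹ := by
        calc _ = (y * v)⁻¹ * (v * y) := by rw [h1]; group
          _ = _ := by group
      rw [e]
      refine (Subgroup.mem_normalizer_iff.1 (pos_normalizes_Mh C hB (h + 1) (inv_mem (mul_mem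
        (C.xGL_mem_posUnipotent hgpos _) (C.xGL_mem_posUnipotent (C.R.simple_pos k) _)))) _).1 hcm
    have h4 : π ⟨_, hWU⟩ = 1 := (hπ _).2 hWM
    have h5 : ∀ l : List (ℕ × ℤ × ℕ × ℕ), (∀ c ∈ l, c ∈ D.commTerms g (D.simple k.val)) →
        ∀ hl, π ⟨C.wordGL (l.map fun c => (c.1, (c.2.1 : F) * (-p.1) ^ c.2.2.1 * p.2 ^ c.2.2.2)), hl⟩
          = (l.map fun c => f c ((c.2.1 : F) * (-p.1) ^ c.2.2.1 * p.2 ^ c.2.2.2)).prod := by
      intro l
      induction l with
      | nil => intro _ hl; exact map_one π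
      | cons a l ih =>
        intro hsub hl
        have hl' : C.wordGL (l.map fun c => (c.1, (c.2.1 : F) * (-p.1) ^ c.2.2.1 * p.2 ^ c.2.2.2))
            ∈ D.posUnipotent F := by
          refine Subgroup.list_prod_mem _ fun y hy => ?_
          simp only [List.mem_map] at hy
          obtain ⟨q, ⟨c, hc, rfl⟩, rfl⟩ := hy
          exact hmem c (hsub c (List.mem_cons_of_mem _ hc)) _
        have e2 := ih (fun c hc => hsub c (List.mem_cons_of_mem _ hc)) hl'
        calc _ = π (⟨_, hmem a (hsub a (List.mem_cons_self ..)) _⟩ * ⟨_, hl'⟩) :=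
              congrArg π (Subtype.ext (C.wordGL_cons _ _))
          _ = _ := by
            rw [map_mul, e2, ← hf a (hsub a (List.mem_cons_self ..))]
            exact List.prod_cons.symm
    replace h4 := (h5 _ (fun c hc => hc) hWU).symm.trans h4
    rw [← h4, listVal, hT, lowTerms]
    refine (prod_filter_eq _ _ _ fun c hc hlt => ?_).trans ?_
    · rw [hf c hc, hπ]
      have hlt' : h < ht D C.R.α c.1 := by simpa using hlt
      exact Subgroup.mem_sup_right (C.xGL_mem_Ucl (lev_mono C (by omega) (hterm c hc)) _)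
    · refine congrArg List.prod (List.map_congr_left fun c _ => congrArg (f c) ?_)
      rw [neg_pow p.1]
      ring
  have ha : ((c₀.2.1 : F) * (-1) ^ c₀.2.2.1) ≠ 0 := by
    refine mul_ne_zero ?_ (pow_ne_zero _ (neg_ne_zero.2 one_ne_zero))
    rcases Int.natAbs_eq c₀.2.1 with e | e <;> rw [e, hc₀u] <;> simp
  obtain ⟨a, ha0, hkill⟩ := isolate f T hnd hadd hcomm
    (fun c (p : F × F) => p.1 ^ c.2.2.1 * p.2 ^ c.2.2.2)
    (fun c => (c.2.1 : F) * (-1) ^ c.2.2.1) c₀ hc₀ ha
    (fun c hc hne => by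
      rcases hdet c hc with he | hd
      · exact absurd he hne
      · refine ⟨fun p => (p.1 * (lam : F) ^ c.2.2.2, p.2), fun p => (p.1, p.2 * (lam : F) ^ c.2.2.1),
          fun m => (lam : F) ^ (c.2.2.2 * m.2.2.1) - (lam : F) ^ (c.2.2.1 * m.2.2.2),
          by show (lam : F) ^ _ - (lam : F) ^ _ = 0; rw [mul_comm c.2.2.2, sub_self], ?_, fun m p => by
            simp only [mul_pow, ← pow_mul]; ring⟩
        intro hd0
        refine hlam _ (detOK_iff hd) ?_
        rw [sub_eq_zero] at hd0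
        rw [zpow_sub, mul_inv_eq_one]
        refine Units.ext ?_
        rw [show (c₀.2.2.1 : ℤ) * c.2.2.2 = ((c.2.2.2 * c₀.2.2.1 : ℕ) : ℤ) by push_cast; ring,
          show (c.2.2.1 : ℤ) * c₀.2.2.2 = ((c.2.2.1 * c₀.2.2.2 : ℕ) : ℤ) by push_cast; ring,
          zpow_natCast, zpow_natCast, Units.val_pow_eq_pow_val, Units.val_pow_eq_pow_val]
        exact hd0)
    hW
  have hfin : f c₀ x = 1 := by
    rcases hlin with e | e
    · have := hkill (x / a, 1)
      simpa [e, mul_div_cancel₀ x ha0] using this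
    · have := hkill (1, x / a)
      simpa [e, mul_div_cancel₀ x ha0] using this
  rw [hf c₀ (hTsub c₀ hc₀).1, hπ] at hfin
  rwa [← hc₀r]

include hB hXU in
theorem base_mem [Fintype F] {two : Bool} (h2 : Fintype.card F ≠ 2)
    (h3 : two = true → Fintype.card F ≠ 3) (hbase : baseCheck D two = true)
    (hXJ : X ≤ C.Ucl (Lev C J 1)) {s : Fin D.rank} (hsJ : s.val ∉ J) (hs : ¬ X ≤ C.Usub s)
    (x : F) : C.xGL (D.simple s.val) x ∈ Mh C X J 2 := by
  classical
  obtain ⟨y, hy, hys⟩ := SetLike.not_le_iff_exists.1 hs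
  set L := C.rootList (Lev C J 1) with hLdef
  have hset := C.setOf_mem_rootList (S := Lev C J 1) fun r hr => hr.1.1
  have hLpos : ∀ r ∈ L, r ∈ Lev C J 1 := fun r hr => by rw [← hset]; exact hr
  obtain ⟨t, ht'⟩ := C.exists_word (L := L) (ChevCore.sorted_filter _)
    (by rw [hLdef, hset]; exact isClosed_lev C) y (by rw [hLdef, hset]; exact hXJ hy)
  obtain ⟨Q, _, π, hπ⟩ := exists_quot C (J := J) 2 hB
  let f : ℕ → F → Q := fun r z =>
    if hz : C.xGL r z ∈ D.posUnipotent F then π ⟨_, hz⟩ else 1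
  have hmem : ∀ r ∈ L, ∀ z, C.xGL r z ∈ D.posUnipotent F :=
    fun r hr z => C.xGL_mem_posUnipotent (hLpos r hr).1 z
  have hf : ∀ r (hr : r ∈ L) z, f r z = π ⟨_, hmem r hr z⟩ := fun r hr z => dif_pos _
  set T := L.filter fun r => decide (ht D C.R.α r ≤ 1) with hT
  have hTL : ∀ r ∈ T, r ∈ L := fun r hr => List.mem_of_mem_filter hr
  have hTsimple : ∀ r ∈ T, ∃ i : Fin D.rank, r = D.simple i.val := by
    intro r hr
    obtain ⟨hrL, hle⟩ := List.mem_filter.1 hr
    have hle' : ht D C.R.α r ≤ 1 := by simpa using hle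
    obtain ⟨hp, ⟨i, -, hi⟩, -⟩ := hLpos r hrL
    have hnn : ∀ j, 0 ≤ C.R.α r j := ((C.R.isPos_iff r).1 hp).2
    have hi1 : 1 ≤ C.R.α r i := by have := hnn i; omega
    rw [ht_eq, heightHom_apply] at hle'
    refine ⟨i, C.R.α_inj hp.1 (C.R.simple_lt i) (funext fun j => ?_)⟩
    rw [C.R.α_simple, Pi.single_apply]
    have h4 := Finset.sum_pair (f := C.R.α r) (a := i) (b := j)
    by_cases hji : j = i
    · subst hji
      have := Finset.single_le_sum (f := C.R.α r) (fun j _ => hnn j) (Finset.mem_univ j)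
      simp
      omega
    · have h5 := Finset.sum_le_sum_of_subset_of_nonneg (f := C.R.α r)
        (Finset.subset_univ {i, j}) (fun k _ _ => hnn k)
      rw [h4 (Ne.symm hji)] at h5
      have := hnn j
      simp [hji]
      omega
  have hht : ∀ r ∈ L, 1 ≤ ht D C.R.α r := fun r hr => (hLpos r hr).2.2
  have hadd : ∀ r ∈ T, ∀ a b, f r (a + b) = f r a * f r b := by
    intro r hr a b
    rw [hf r (hTL r hr), hf r (hTL r hr), hf r (hTL r hr), ← map_mul]
    exact congrArg π (Subtype.ext (C.xGL_add r a b))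
  have hcomm : ∀ r ∈ T, ∀ r' ∈ T, ∀ a b, Commute (f r a) (f r' b) := by
    intro r hr r' hr' a b
    rw [hf r (hTL r hr), hf r' (hTL r' hr')]
    refine (commutatorElement_eq_one_iff_commute).1 ?_
    rw [← map_commutatorElement, hπ]
    have h1 := lev_conj_comm C (hLpos r' (hTL r' hr')) (hLpos r (hTL r hr)).1 b a
    have := hht r (hTL r hr)
    exact Subgroup.mem_sup_right (C.Ucl_mono (lev_mono C (by omega)) h1)
  have hW : ∀ c : Fin D.rank → Fˣ,
      listVal f T (fun r => t r * (C.R.torusChar c (C.R.α r) : F)) = 1 := by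
    intro c
    have hcy : C.R.torus c * y * (C.R.torus c)⁻¹ ∈ X :=
      (Subgroup.mem_normalizer_iff.1 (hB (C.torus_mem_borel c)) y).1 hy
    set t' : ℕ → F := fun r => t r * (C.R.torusChar c (C.R.α r) : F) with ht'def
    have hconj : ∀ l : List ℕ, (∀ r ∈ l, r ∈ L) →
        C.R.torus c * C.word l t * (C.R.torus c)⁻¹ = C.word l t' := by
      intro l
      induction l with
      | nil => intro _; simp [C.word_nil]
      | cons a l ih =>
        intro hsub
        rw [C.word_cons, C.word_cons, ← ih fun r hr => hsub r (List.mem_cons_of_mem _ hr)]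
        have h1 := C.acts_torus c ⟨a, (hLpos a (hsub a (List.mem_cons_self ..))).1.1⟩ (t a)
        rw [show t' a = (C.R.torusChar c (C.R.α a) : F) * t a from mul_comm _ _, ← h1]
        group
    rw [ht', hconj L fun r hr => hr] at hcy
    have h5 : ∀ l : List ℕ, (∀ r ∈ l, r ∈ L) → ∀ hl, π ⟨C.word l t', hl⟩ =
        (l.map fun r => f r (t' r)).prod := by
      intro l
      induction l with
      | nil => intro _ hl; exact map_one π
      | cons a l ih =>
        intro hsub hl
        have hl' : C.word l t' ∈ D.posUnipotent F := by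
          have h1 := mul_mem (inv_mem (hmem a (hsub a (List.mem_cons_self ..)) (t' a))) hl
          rwa [C.word_cons, inv_mul_cancel_left] at h1
        rw [List.map_cons, List.prod_cons, ← ih (fun r hr => hsub r (List.mem_cons_of_mem _ hr)) hl',
          hf a (hsub a (List.mem_cons_self ..)), ← map_mul]
        exact congrArg π (Subtype.ext (C.word_cons _ _ _))
    have h4 : π ⟨_, hXU hcy⟩ = 1 := (hπ _).2 (Subgroup.mem_sup_left hcy)
    rw [h5 L fun r hr => hr] at h4
    rw [← h4, listVal, hT]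
    refine prod_filter_eq _ _ _ fun r hr hlt => ?_
    rw [hf r hr, hπ]
    have hlt' : 1 < ht D C.R.α r := by simpa using hlt
    exact Subgroup.mem_sup_right (C.xGL_mem_Ucl (S := Lev C J 2)
      ⟨(hLpos r hr).1, (hLpos r hr).2.1, by omega⟩ _)
  have hht1 : ht D C.R.α (D.simple s.val) = 1 := by
    rw [ht_eq, C.R.α_simple, heightHom_apply]; simp
  have hsL : D.simple s.val ∈ L := by
    have : D.simple s.val ∈ Lev C J 1 :=
      ⟨C.R.simple_pos s, ⟨s, hsJ, by simp [C.R.α_simple]⟩, by omega⟩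
    rwa [← hset] at this
  have hsT : D.simple s.val ∈ T := by
    rw [hT, List.mem_filter]
    exact ⟨hsL, by simp [hht1]⟩
  have hts : t (D.simple s.val) ≠ 0 := by
    intro h0
    refine hys ?_
    rw [ht']
    refine Subgroup.list_prod_mem _ fun z hz => ?_
    simp only [List.map_map, List.mem_map, Function.comp] at hz
    obtain ⟨r, hr, rfl⟩ := hz
    by_cases he : r = D.simple s.val
    · subst he; rw [h0, C.xGL_zero]; exact one_mem _
    · exact C.xGL_mem_Ucl (S := {r | D.IsPosRoot r ∧ r ≠ D.simple s.val}) ⟨(hLpos r hr).1, he⟩ _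
  obtain ⟨lam, hlam⟩ := exists_scalar (F := F) two h2 h3
  have hTnd : T.Nodup := ((ChevCore.sorted_filter _).imp ne_of_lt).filter _
  obtain ⟨a, ha0, hkill⟩ := isolate f T hTnd hadd hcomm
    (fun r (c : Fin D.rank → Fˣ) => (C.R.torusChar c (C.R.α r) : F)) t _ hsT hts
    (fun r hr hne => by
      obtain ⟨i, rfl⟩ := hTsimple r hr
      have hb := hbase
      simp only [baseCheck, List.all_eq_true, List.mem_finRange, true_implies, Bool.or_eq_true,
        decide_eq_true_eq, List.any_eq_true, true_and] at hb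
      rcases hb i s with he | ⟨k, k', a, -, b, -, hsep⟩
      · exact absurd (by rw [he]) hne
      simp only [sepOK, Bool.and_eq_true, decide_eq_true_eq] at hsep
      set c₀ : Fin D.rank → Fˣ := Pi.mulSingle k (lam ^ a) * Pi.mulSingle k' (lam ^ b)
      have hc : ∀ j : Fin D.rank, C.R.torusChar c₀ (C.R.α (D.simple j.val)) =
          lam ^ (a * D.cartan k.val (D.simple j.val) + b * D.cartan k'.val (D.simple j.val)) := by
        intro j
        rw [C.R.torusChar_mul, C.R.torusChar_single _ _ (C.R.simple_lt j),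
          C.R.torusChar_single _ _ (C.R.simple_lt j), ← zpow_mul, ← zpow_mul, ← zpow_add]
      refine ⟨fun c => c₀ * c, id, fun m => (C.R.torusChar c₀ (C.R.α m) : F) - 1, ?_, ?_,
        fun m c => ?_⟩
      · show ((C.R.torusChar c₀ _ : Fˣ) : F) - 1 = 0
        rw [hc, hsep.1, zpow_zero, Units.val_one, sub_self]
      · rw [sub_ne_zero, hc]
        exact fun h => hlam _ (detOK_iff hsep.2) (Units.ext h)
      · rw [C.R.torusChar_mul, Units.val_mul, id_eq, sub_mul, one_mul])
    hW
  have hfin : f (D.simple s.val) x = 1 := by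
    refine eq_one_of_squares (f (D.simple s.val)) (hadd _ hsT) ha0 (fun z => ?_) x
    by_cases hz : z = 0
    · subst hz
      simp [map_zero_of_add (hadd _ hsT)]
    · have h1 := hkill (Pi.mulSingle s (Units.mk0 z hz))
      rw [C.R.torusChar_single _ _ (C.R.simple_lt s), C.hR.cartan_self] at h1
      simpa [zpow_ofNat] using h1
  rwa [hf _ (hTL _ hsT), hπ] at hfin

include hB hXU in
/-- A `B`-invariant subgroup of `U_J` not contained in `U_p` for `p` outside `J` is `U_J`. -/
theorem radical_le [Fintype F] {two two' : Bool} (h2 : Fintype.card F ≠ 2)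
    (h3 : two = true → Fintype.card F ≠ 3) (h3' : two' = true → Fintype.card F ≠ 3)
    {tab : List (ℕ × ℕ × ℕ × ℕ)} (hstep : stepCheck D C.R.α two tab = true)
    (hbase : baseCheck D two' = true) (hXJ : X ≤ D.unipotentRadical F J)
    (hs : ∀ s : Fin D.rank, s.val ∉ J → ¬ X ≤ C.Usub s) : D.unipotentRadical F J ≤ X := by
  classical
  have hrad : D.unipotentRadical F J = C.Ucl (Lev C J 1) := by
    rw [C.radical_eq]
    refine congrArg C.Ucl (Set.ext fun r => ?_)
    constructor
    · rintro ⟨hp, hn⟩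
      refine ⟨hp, ?_, by rw [ht_eq]; exact C.R.one_le_height_of_pos hp⟩
      by_contra hcon
      push Not at hcon
      exact hn (C.hR.inRootSub_iff.2 ⟨hp.1, fun i hi => hcon i fun e => hi (mem_finSet.2 e)⟩)
    · rintro ⟨hp, ⟨i, hi, hne⟩, -⟩
      exact ⟨hp, fun hin => hne ((C.hR.inRootSub_iff.1 hin).2 i fun e => hi (mem_finSet.1 e))⟩
  rw [hrad] at hXJ ⊢
  have key : ∀ n : ℕ, C.Ucl (Lev C J 1) ≤ Mh C X J ((n : ℤ) + 1) := by
    intro n
    induction n with
    | zero => rw [Nat.cast_zero, zero_add]; exact le_sup_right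
    | succ n ih =>
      have hclaim : ∀ r ∈ Lev C J 1, ht D C.R.α r = (n : ℤ) + 1 →
          ∀ z, C.xGL r z ∈ Mh C X J ((n : ℤ) + 1 + 1) := by
        rintro r ⟨hp, ⟨i, hiJ, hi⟩, -⟩ hr z
        rcases Nat.eq_zero_or_pos n with rfl | hn
        · have hnn : ∀ j, 0 ≤ C.R.α r j := ((C.R.isPos_iff r).1 hp).2
          have hr1 : ht D C.R.α r = 1 := by simpa using hr
          rw [ht_eq, heightHom_apply] at hr1
          have hrs : r = D.simple i.val := by
            refine C.R.α_inj hp.1 (C.R.simple_lt i) (funext fun j => ?_)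
            rw [C.R.α_simple, Pi.single_apply]
            have h1 : 1 ≤ C.R.α r i := by have := hnn i; omega
            by_cases hji : j = i
            · subst hji
              have := Finset.single_le_sum (f := C.R.α r) (fun j _ => hnn j) (Finset.mem_univ j)
              simp
              omega
            · have h5 := Finset.sum_le_sum_of_subset_of_nonneg (f := C.R.α r)
                (Finset.subset_univ {i, j}) (fun k _ _ => hnn k)
              rw [Finset.sum_pair (Ne.symm hji)] at h5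
              have := hnn j
              simp [hji]
              omega
          subst hrs
          simpa using base_mem C hB hXU h2 h3' hbase hXJ hiJ (hs i hiJ) z
        · simp only [stepCheck, Bool.and_eq_true, decide_eq_true_eq, List.all_eq_true] at hstep
          have hin : (r, i.val) ∈ tab.map fun e => (e.1, e.2.1) := by
            rw [hstep.2]
            simp only [List.mem_flatMap, List.mem_filter, List.mem_range, List.mem_map,
              List.mem_finRange, true_and, Bool.and_eq_true, decide_eq_true_eq]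
            exact ⟨r, ⟨hp.1, hp, by omega⟩, i, hi, rfl⟩
          obtain ⟨⟨r', i', g, k⟩, he, heq⟩ := List.mem_map.1 hin
          simp only [Prod.mk.injEq] at heq
          obtain ⟨rfl, rfl⟩ := heq
          have h6 := hstep.1 _ he
          split at h6
          · next hlt =>
            have hok := h6
            simp only [stepOK, Bool.and_eq_true, decide_eq_true_eq] at hok
            obtain ⟨⟨⟨⟨⟨⟨hgpos, hgi⟩, -⟩, -⟩, -⟩, -⟩, -⟩ := hok
            rw [← hr]
            refine step_mem C hB hXU h2 h3 hp hiJ h6 (fun t => ?_) z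
            rw [hr]
            exact ih (C.xGL_mem_Ucl (S := Lev C J 1) ⟨hgpos, ⟨i, hiJ, hgi⟩,
              by rw [ht_eq]; exact C.R.one_le_height_of_pos hgpos⟩ t)
          · exact absurd h6 Bool.false_ne_true
      refine ih.trans (sup_le le_sup_left (C.Ucl_le fun r hr z => ?_))
      push_cast
      rcases eq_or_lt_of_le hr.2.2 with he | hlt
      · exact hclaim r (lev_mono C (by omega) hr) he.symm z
      · exact Subgroup.mem_sup_right (C.xGL_mem_Ucl (S := Lev C J _) ⟨hr.1, hr.2.1, by omega⟩ z)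
  refine (key (D.rank + D.nroots)).trans (sup_le le_rfl (C.Ucl_le fun r hr _ => ?_))
  exfalso
  have h1 := C.R.height_le r hr.1.1
  have h2 := hr.2.2
  rw [ht_eq, heightHom_apply] at h2
  omega

end CfsgLib.WeakUnip
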