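import Cfsg.Agent.Lib.ChevStr.Parabolic

/-!
A weakly closed subgroup of `U` is normalised by `B`; with `J` the fundamental roots whose
reflection normalises it, it lies in `U_J` and in no `U_p`, `p` outside `J`.
-/

set_option autoImplicit false

namespace CfsgLib.WeakUnip

open Cfsg.Lie CfsgLib.ChevStr

variable {D : ChevalleyDatum} {F : Type*} [Field F] (C : ChevCore D F)
variable (X : Subgroup (GL D.Idx F))

open scoped MatrixGroups

/-- The fundamental roots whose reflection normalises `X`. -/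
def normSet : Set ℕ :=
  {j | ∃ h : j < D.rank, C.nS ⟨j, h⟩ ∈ Subgroup.normalizer (X : Set (GL D.Idx F))}

theorem normSet_lt {j : ℕ} (hj : j ∈ normSet C X) : j < D.rank := hj.1

theorem mem_normalizer_of_map_eq {g : GL D.Idx F}
    (h : X.map (MulAut.conj g).toMonoidHom = X) : g ∈ Subgroup.normalizer (X : Set (GL D.Idx F)) := by
  refine Subgroup.mem_normalizer_iff.2 fun x => ⟨fun hx => ?_, fun hx => ?_⟩
  · rw [← h]; exact ⟨x, hx, rfl⟩
  · rw [← h] at hx
    obtain ⟨y, hy, hy'⟩ := hx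
    simp only [MulEquiv.coe_toMonoidHom, MulAut.conj_apply, mul_left_inj, mul_right_inj] at hy'
    exact hy' ▸ hy

variable (hXU : X ≤ D.posUnipotent F)
  (hwc : ∀ g ∈ D.group F, X.map (MulAut.conj g).toMonoidHom ≤ D.posUnipotent F →
    X.map (MulAut.conj g).toMonoidHom = X)

include hwc in
theorem mem_normalizer_of_conj {g : GL D.Idx F} (hg : g ∈ D.group F)
    (h : ∀ x ∈ X, g * x * g⁻¹ ∈ D.posUnipotent F) :
    g ∈ Subgroup.normalizer (X : Set (GL D.Idx F)) := by
  refine mem_normalizer_of_map_eq X (hwc g hg ?_)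
  rintro _ ⟨x, hx, rfl⟩
  exact h x hx

include C hXU hwc in
theorem borel_le_normalizer : D.borelSubgroup F ≤ Subgroup.normalizer (X : Set (GL D.Idx F)) := by
  intro b hb
  refine mem_normalizer_of_conj X hwc (C.borel_le_group hb) fun x hx => ?_
  have hn : D.borelSubgroup F ≤ Subgroup.normalizer (D.posUnipotent F : Set (GL D.Idx F)) :=
    sup_le Subgroup.le_normalizer C.diagonal_normalizes_pos
  exact (Subgroup.mem_normalizer_iff.1 (hn hb) x).1 (hXU hx)

include hwc in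
theorem not_le_Usub {s : Fin D.rank} (hs : s.val ∉ normSet C X) : ¬ X ≤ C.Usub s := fun hle =>
  hs ⟨s.isLt, mem_normalizer_of_conj X hwc (C.nGL_mem_group _ _) fun x hx =>
    C.Usub_le s (C.nS_conj_Usub s x (hle hx))⟩

theorem exists_rep_normalizing {w : Equiv.Perm (Fin D.nroots)}
    (hw : w ∈ C.hR.weylSub (finSet D (normSet C X))) :
    ∃ n ∈ Subgroup.normalizer (X : Set (GL D.Idx F)), C.Acts n w := by
  refine C.hR.weylSub_induction (P := fun w => ∃ n ∈ Subgroup.normalizer (X : Set (GL D.Idx F)),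
    C.Acts n w) ⟨1, one_mem _, C.acts_one⟩ ?_ w hw
  rintro v - i hi - ⟨n, hn, hv⟩
  obtain ⟨_, h⟩ := mem_finSet.1 hi
  exact ⟨n * C.nS i, mul_mem hn h, ChevCore.Acts.mul C hv (C.acts_nS i)⟩

theorem exists_longest_sub {R : RootData D} (hR : ReflData R) (J : Set ℕ) :
    ∃ w ∈ hR.weylSub (finSet D J), ∀ s : Fin D.nroots, D.IsPosRoot s → D.InRootSub J s →
      D.IsNegRoot (w s) := by
  classical
  obtain ⟨w, hw, hmax⟩ := (Finset.univ.filter fun w => w ∈ hR.weylSub (finSet D J)).exists_max_image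
    (fun w => (hR.invSet w).card) ⟨1, by simp [(hR.weylSub (finSet D J)).one_mem]⟩
  rw [Finset.mem_filter] at hw
  have hw' := hR.weylSub_le _ hw.2
  refine ⟨w, hw.2, fun s hs hJ => (R.isNeg_iff _).2 ⟨(w s).isLt, ?_⟩⟩
  have hsimp : ∀ j ∈ finSet D J, D.IsNegRoot (w ⟨D.simple j.val, R.simple_lt j⟩) := fun j hj =>
    (R.pos_or_neg (w _).isLt).resolve_left fun hp => by
      have h1 := hR.invSet_mul_sPerm hw' j hp
      have h2 := hmax (w * hR.sPerm j)
        (Finset.mem_filter.2 ⟨Finset.mem_univ _, mul_mem hw.2 (hR.sPerm_mem_sub hj)⟩)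
      omega
  rw [hR.α_weyl w hw' s]
  refine Finset.sum_nonpos fun j _ => ?_
  by_cases hj : j ∈ finSet D J
  · exact smul_nonpos_of_nonneg_of_nonpos (((R.isPos_iff _).1 hs).2 j)
      ((R.isNeg_iff _).1 (hsimp j hj)).2
  · rw [(hR.inRootSub_iff.1 hJ).2 j hj, zero_smul]

include hXU in
theorem le_radical : X ≤ D.unipotentRadical F (normSet C X) := by
  classical
  set J := normSet C X
  obtain ⟨w, hw, hneg⟩ := exists_longest_sub C.hR J
  obtain ⟨n, hn, hact⟩ := exists_rep_normalizing C X hw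
  set A : Set ℕ := {r | D.IsPosRoot r ∧ D.InRootSub J r} with hA
  have hle : D.posUnipotent F ≤ C.Ucl A ⊔ D.unipotentRadical F J := by
    refine C.posUnipotent_le fun r t hr => ?_
    by_cases h : D.InRootSub J r
    · exact Subgroup.mem_sup_left (C.xGL_mem_Ucl (S := A) ⟨hr, h⟩ t)
    · exact Subgroup.mem_sup_right (Subgroup.subset_closure ⟨r, t, hr, h, C.coe_xGL r t⟩)
  have hAn : C.Ucl A ≤ Subgroup.normalizer (D.unipotentRadical F J : Set (GL D.Idx F)) :=
    C.Ucl_le fun r hr t => C.parabolic_le_normalizer (C.xGL_mem_parabolic hr.2 t)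
  intro x hx
  have hx' := hle (hXU hx)
  rw [← SetLike.mem_coe, Subgroup.coe_mul_of_left_le_normalizer_right _ _ hAn] at hx'
  obtain ⟨y, hy, z, hz, rfl⟩ := hx'
  have hnx : n * (y * z) * n⁻¹ ∈ D.posUnipotent F :=
    hXU ((Subgroup.mem_normalizer_iff.1 hn _).1 hx)
  have hny : n * y * n⁻¹ ∈ D.negUnipotent F := by
    refine C.conj_Ucl_le (ChevCore.Acts.moves C hact) (fun s hs t => ?_) y hy
    exact C.xGL_mem_negUnipotent (hneg s hs.1 hs.2) t
  have hnz : n * z * n⁻¹ ∈ D.posUnipotent F := by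
    rw [C.radical_eq] at hz
    refine C.conj_Ucl_le (ChevCore.Acts.moves C hact) (fun s hs t => ?_) z hz
    refine C.xGL_mem_posUnipotent ?_ t
    refine (C.R.isPos_iff _).2 ⟨(w s).isLt, ?_⟩
    obtain ⟨hs0, hsJ⟩ := hs
    by_contra hcon
    have hneg' : D.IsNegRoot (w s) := (C.R.pos_or_neg (w s).isLt).resolve_left fun h =>
      hcon ((C.R.isPos_iff _).1 h).2
    refine hsJ (C.hR.inRootSub_iff.2 ⟨s.isLt, fun i hi => ?_⟩)
    exact C.hR.invSet_supp hw (C.hR.mem_invSet.2 ⟨hs0, hneg'⟩) hi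
  have hy1 : n * y * n⁻¹ ∈ D.borelSubgroup F := by
    have := mul_mem hnx (inv_mem hnz)
    rw [show n * (y * z) * n⁻¹ * (n * z * n⁻¹)⁻¹ = n * y * n⁻¹ by group] at this
    exact le_sup_left (b := D.diagonalSubgroup F) this
  have h1 := (Subgroup.eq_bot_iff_forall _).1 C.borel_inf_negUnipotent _
    (Subgroup.mem_inf.2 ⟨hy1, hny⟩)
  rw [mul_inv_eq_one, mul_eq_left] at h1
  simpa [h1] using hz

end CfsgLib.WeakUnip
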