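import Cfsg.Agent.Lib.WeakUnip.Check
import Cfsg.Agent.Lib.ChevStr.RootTables

/-! Witness tables for the checks. -/

set_option autoImplicit false
set_option Elab.async false

namespace CfsgLib.WeakUnip

open Cfsg.Lie CfsgLib.ChevStr

/-- Witnesses for type G2. -/
def stepTabG2 : List (ℕ × ℕ × ℕ × ℕ) :=
  [(8, 0, 7, 1), (8, 1, 6, 0), (9, 0, 7, 1), (9, 1, 6, 0), (10, 0, 7, 1), (10, 1, 6, 0),
   (11, 0, 10, 1), (11, 1, 10, 1)]

theorem stepG2 :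
    stepCheck chevG2 rootDataG2.α true stepTabG2 = true := by
  decide +kernel

theorem baseG2 : baseCheck chevG2 true = true := by
  decide +kernel

/-- Witnesses for type B2. -/
def stepTabB2 : List (ℕ × ℕ × ℕ × ℕ) :=
  [(6, 0, 5, 1), (6, 1, 4, 0), (7, 0, 5, 1), (7, 1, 4, 0)]

theorem stepB2 :
    stepCheck chevB2 rootDataB2.α true stepTabB2 = true := by
  decide +kernel

theorem baseB2 : baseCheck chevB2 true = true := by
  decide +kernel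

/-- Witnesses for type D4. -/
def stepTabD4 : List (ℕ × ℕ × ℕ × ℕ) :=
  [(15, 1, 14, 3), (15, 3, 12, 1), (16, 1, 14, 2), (16, 2, 13, 1), (17, 1, 15, 2), (17, 2, 16, 3),
   (17, 3, 15, 2), (19, 0, 18, 1), (19, 1, 14, 0), (20, 0, 19, 3), (20, 1, 15, 0), (20, 3, 15, 0),
   (21, 0, 19, 2), (21, 1, 16, 0), (21, 2, 16, 0), (22, 0, 20, 2), (22, 1, 17, 0), (22, 2, 17, 0),
   (22, 3, 17, 0), (23, 0, 22, 1), (23, 1, 22, 1), (23, 2, 22, 1), (23, 3, 22, 1)]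

theorem stepD4 :
    stepCheck chevD4 rootDataD4.α false stepTabD4 = true := by
  decide +kernel

theorem baseD4 : baseCheck chevD4 true = true := by
  decide +kernel

/-- Witnesses for type F4. -/
def stepTabF4 : List (ℕ × ℕ × ℕ × ℕ) :=
  [(26, 2, 25, 3), (26, 3, 24, 2), (28, 1, 27, 2), (28, 2, 25, 1), (29, 1, 28, 3), (29, 2, 26, 1),
   (29, 3, 26, 1), (30, 1, 27, 2), (30, 2, 25, 1), (31, 1, 30, 3), (31, 2, 26, 1), (31, 3, 26, 1),
   (32, 1, 31, 2), (32, 2, 31, 2), (32, 3, 31, 2), (34, 0, 33, 1), (34, 1, 27, 0), (35, 0, 34, 2),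
   (35, 1, 28, 0), (35, 2, 28, 0), (36, 0, 35, 3), (36, 1, 29, 0), (36, 2, 29, 0), (36, 3, 29, 0),
   (37, 0, 35, 1), (37, 1, 30, 0), (37, 2, 30, 0), (38, 0, 36, 1), (38, 1, 31, 0), (38, 2, 31, 0),
   (38, 3, 31, 0), (39, 0, 38, 2), (39, 1, 32, 0), (39, 2, 32, 0), (39, 3, 32, 0), (40, 0, 39, 1),
   (40, 1, 39, 1), (40, 2, 39, 1), (40, 3, 39, 1), (41, 0, 34, 2), (41, 1, 30, 0), (41, 2, 30, 0),
   (42, 0, 41, 3), (42, 1, 31, 0), (42, 2, 31, 0), (42, 3, 31, 0), (43, 0, 42, 2), (43, 1, 32, 0),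
   (43, 2, 32, 0), (43, 3, 32, 0), (44, 0, 40, 0), (44, 1, 40, 0), (44, 2, 40, 0), (44, 3, 40, 0),
   (45, 0, 43, 1), (45, 1, 43, 1), (45, 2, 43, 1), (45, 3, 43, 1), (46, 0, 45, 2), (46, 1, 45, 2),
   (46, 2, 45, 2), (46, 3, 45, 2), (47, 0, 46, 3), (47, 1, 46, 3), (47, 2, 46, 3), (47, 3, 46, 3)]

theorem stepF4 :
    stepCheck chevF4 rootDataF4.α true stepTabF4 = true := by
  decide +kernel

theorem baseF4 : baseCheck chevF4 true = true := by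
  decide +kernel

/-- Witnesses for type E6. -/
def stepTabE6 : List (ℕ × ℕ × ℕ × ℕ) :=
  [(38, 4, 37, 5), (38, 5, 36, 4), (40, 3, 39, 4), (40, 4, 37, 3), (41, 3, 40, 5), (41, 4, 38, 3),
   (41, 5, 38, 3), (43, 2, 42, 3), (43, 3, 39, 2), (44, 2, 43, 4), (44, 3, 40, 2), (44, 4, 40, 2),
   (45, 2, 44, 5), (45, 3, 41, 2), (45, 4, 41, 2), (45, 5, 41, 2), (47, 1, 46, 3), (47, 3, 39, 1),
   (48, 1, 47, 4), (48, 3, 40, 1), (48, 4, 40, 1), (49, 1, 48, 5), (49, 3, 41, 1), (49, 4, 41, 1),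
   (49, 5, 41, 1), (50, 1, 47, 2), (50, 2, 43, 1), (50, 3, 43, 1), (51, 1, 48, 2), (51, 2, 44, 1),
   (51, 3, 44, 1), (51, 4, 44, 1), (52, 1, 49, 2), (52, 2, 45, 1), (52, 3, 45, 1), (52, 4, 45, 1),
   (52, 5, 45, 1), (53, 1, 51, 3), (53, 2, 51, 3), (53, 3, 51, 3), (53, 4, 51, 3), (54, 1, 52, 3),
   (54, 2, 52, 3), (54, 3, 52, 3), (54, 4, 52, 3), (54, 5, 52, 3), (55, 1, 54, 4), (55, 2, 54, 4),
   (55, 3, 54, 4), (55, 4, 54, 4), (55, 5, 54, 4), (57, 0, 56, 2), (57, 2, 42, 0), (58, 0, 57, 3),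
   (58, 2, 43, 0), (58, 3, 43, 0), (59, 0, 58, 4), (59, 2, 44, 0), (59, 3, 44, 0), (59, 4, 44, 0),
   (60, 0, 59, 5), (60, 2, 45, 0), (60, 3, 45, 0), (60, 4, 45, 0), (60, 5, 45, 0), (61, 0, 58, 1),
   (61, 1, 50, 0), (61, 2, 50, 0), (61, 3, 50, 0), (62, 0, 59, 1), (62, 1, 51, 0), (62, 2, 51, 0),
   (62, 3, 51, 0), (62, 4, 51, 0), (63, 0, 60, 1), (63, 1, 52, 0), (63, 2, 52, 0), (63, 3, 52, 0),
   (63, 4, 52, 0), (63, 5, 52, 0), (64, 0, 62, 3), (64, 1, 53, 0), (64, 2, 53, 0), (64, 3, 53, 0),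
   (64, 4, 53, 0), (65, 0, 63, 3), (65, 1, 54, 0), (65, 2, 54, 0), (65, 3, 54, 0), (65, 4, 54, 0),
   (65, 5, 54, 0), (66, 0, 65, 4), (66, 1, 55, 0), (66, 2, 55, 0), (66, 3, 55, 0), (66, 4, 55, 0),
   (66, 5, 55, 0), (67, 0, 64, 2), (67, 1, 64, 2), (67, 2, 64, 2), (67, 3, 64, 2), (67, 4, 64, 2),
   (68, 0, 65, 2), (68, 1, 65, 2), (68, 2, 65, 2), (68, 3, 65, 2), (68, 4, 65, 2), (68, 5, 65, 2),
   (69, 0, 66, 2), (69, 1, 66, 2), (69, 2, 66, 2), (69, 3, 66, 2), (69, 4, 66, 2), (69, 5, 66, 2),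
   (70, 0, 69, 3), (70, 1, 69, 3), (70, 2, 69, 3), (70, 3, 69, 3), (70, 4, 69, 3), (70, 5, 69, 3),
   (71, 0, 70, 1), (71, 1, 70, 1), (71, 2, 70, 1), (71, 3, 70, 1), (71, 4, 70, 1), (71, 5, 70, 1)]

theorem stepE6 :
    stepCheck chevE6 rootDataE6.α false stepTabE6 = true := by
  decide +kernel

theorem baseE6 : baseCheck chevE6 false = true := by
  decide +kernel

/-- Witnesses for type E7. -/
def stepTabE7 : List (ℕ × ℕ × ℕ × ℕ) :=
  [(65, 5, 64, 6), (65, 6, 63, 5), (67, 4, 66, 5), (67, 5, 64, 4), (68, 4, 67, 6), (68, 5, 65, 4),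
   (68, 6, 65, 4), (70, 3, 69, 4), (70, 4, 66, 3), (71, 3, 70, 5), (71, 4, 67, 3), (71, 5, 67, 3),
   (72, 3, 71, 6), (72, 4, 68, 3), (72, 5, 68, 3), (72, 6, 68, 3), (74, 2, 73, 3), (74, 3, 69, 2),
   (75, 2, 74, 4), (75, 3, 70, 2), (75, 4, 70, 2), (76, 2, 75, 5), (76, 3, 71, 2), (76, 4, 71, 2),
   (76, 5, 71, 2), (77, 2, 76, 6), (77, 3, 72, 2), (77, 4, 72, 2), (77, 5, 72, 2), (77, 6, 72, 2),
   (79, 1, 78, 3), (79, 3, 69, 1), (80, 1, 79, 4), (80, 3, 70, 1), (80, 4, 70, 1), (81, 1, 80, 5),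
   (81, 3, 71, 1), (81, 4, 71, 1), (81, 5, 71, 1), (82, 1, 81, 6), (82, 3, 72, 1), (82, 4, 72, 1),
   (82, 5, 72, 1), (82, 6, 72, 1), (83, 1, 79, 2), (83, 2, 74, 1), (83, 3, 74, 1), (84, 1, 80, 2),
   (84, 2, 75, 1), (84, 3, 75, 1), (84, 4, 75, 1), (85, 1, 81, 2), (85, 2, 76, 1), (85, 3, 76, 1),
   (85, 4, 76, 1), (85, 5, 76, 1), (86, 1, 82, 2), (86, 2, 77, 1), (86, 3, 77, 1), (86, 4, 77, 1),
   (86, 5, 77, 1), (86, 6, 77, 1), (87, 1, 84, 3), (87, 2, 84, 3), (87, 3, 84, 3), (87, 4, 84, 3),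
   (88, 1, 85, 3), (88, 2, 85, 3), (88, 3, 85, 3), (88, 4, 85, 3), (88, 5, 85, 3), (89, 1, 86, 3),
   (89, 2, 86, 3), (89, 3, 86, 3), (89, 4, 86, 3), (89, 5, 86, 3), (89, 6, 86, 3), (90, 1, 88, 4),
   (90, 2, 88, 4), (90, 3, 88, 4), (90, 4, 88, 4), (90, 5, 88, 4), (91, 1, 89, 4), (91, 2, 89, 4),
   (91, 3, 89, 4), (91, 4, 89, 4), (91, 5, 89, 4), (91, 6, 89, 4), (92, 1, 91, 5), (92, 2, 91, 5),
   (92, 3, 91, 5), (92, 4, 91, 5), (92, 5, 91, 5), (92, 6, 91, 5), (94, 0, 93, 2), (94, 2, 73, 0),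
   (95, 0, 94, 3), (95, 2, 74, 0), (95, 3, 74, 0), (96, 0, 95, 4), (96, 2, 75, 0), (96, 3, 75, 0),
   (96, 4, 75, 0), (97, 0, 96, 5), (97, 2, 76, 0), (97, 3, 76, 0), (97, 4, 76, 0), (97, 5, 76, 0),
   (98, 0, 97, 6), (98, 2, 77, 0), (98, 3, 77, 0), (98, 4, 77, 0), (98, 5, 77, 0), (98, 6, 77, 0),
   (99, 0, 95, 1), (99, 1, 83, 0), (99, 2, 83, 0), (99, 3, 83, 0), (100, 0, 96, 1), (100, 1, 84, 0),
   (100, 2, 84, 0), (100, 3, 84, 0), (100, 4, 84, 0), (101, 0, 97, 1), (101, 1, 85, 0), (101, 2, 85, 0),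
   (101, 3, 85, 0), (101, 4, 85, 0), (101, 5, 85, 0), (102, 0, 98, 1), (102, 1, 86, 0), (102, 2, 86, 0),
   (102, 3, 86, 0), (102, 4, 86, 0), (102, 5, 86, 0), (102, 6, 86, 0), (103, 0, 100, 3), (103, 1, 87, 0),
   (103, 2, 87, 0), (103, 3, 87, 0), (103, 4, 87, 0), (104, 0, 101, 3), (104, 1, 88, 0), (104, 2, 88, 0),
   (104, 3, 88, 0), (104, 4, 88, 0), (104, 5, 88, 0), (105, 0, 102, 3), (105, 1, 89, 0), (105, 2, 89, 0),
   (105, 3, 89, 0), (105, 4, 89, 0), (105, 5, 89, 0), (105, 6, 89, 0), (106, 0, 104, 4), (106, 1, 90, 0),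
   (106, 2, 90, 0), (106, 3, 90, 0), (106, 4, 90, 0), (106, 5, 90, 0), (107, 0, 105, 4), (107, 1, 91, 0),
   (107, 2, 91, 0), (107, 3, 91, 0), (107, 4, 91, 0), (107, 5, 91, 0), (107, 6, 91, 0), (108, 0, 107, 5),
   (108, 1, 92, 0), (108, 2, 92, 0), (108, 3, 92, 0), (108, 4, 92, 0), (108, 5, 92, 0), (108, 6, 92, 0),
   (109, 0, 103, 2), (109, 1, 103, 2), (109, 2, 103, 2), (109, 3, 103, 2), (109, 4, 103, 2), (110, 0, 104, 2),
   (110, 1, 104, 2), (110, 2, 104, 2), (110, 3, 104, 2), (110, 4, 104, 2), (110, 5, 104, 2), (111, 0, 105, 2),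
   (111, 1, 105, 2), (111, 2, 105, 2), (111, 3, 105, 2), (111, 4, 105, 2), (111, 5, 105, 2), (111, 6, 105, 2),
   (112, 0, 106, 2), (112, 1, 106, 2), (112, 2, 106, 2), (112, 3, 106, 2), (112, 4, 106, 2), (112, 5, 106, 2),
   (113, 0, 107, 2), (113, 1, 107, 2), (113, 2, 107, 2), (113, 3, 107, 2), (113, 4, 107, 2), (113, 5, 107, 2),
   (113, 6, 107, 2), (114, 0, 108, 2), (114, 1, 108, 2), (114, 2, 108, 2), (114, 3, 108, 2), (114, 4, 108, 2),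
   (114, 5, 108, 2), (114, 6, 108, 2), (115, 0, 112, 3), (115, 1, 112, 3), (115, 2, 112, 3), (115, 3, 112, 3),
   (115, 4, 112, 3), (115, 5, 112, 3), (116, 0, 113, 3), (116, 1, 113, 3), (116, 2, 113, 3), (116, 3, 113, 3),
   (116, 4, 113, 3), (116, 5, 113, 3), (116, 6, 113, 3), (117, 0, 114, 3), (117, 1, 114, 3), (117, 2, 114, 3),
   (117, 3, 114, 3), (117, 4, 114, 3), (117, 5, 114, 3), (117, 6, 114, 3), (118, 0, 117, 4), (118, 1, 117, 4),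
   (118, 2, 117, 4), (118, 3, 117, 4), (118, 4, 117, 4), (118, 5, 117, 4), (118, 6, 117, 4), (119, 0, 115, 1),
   (119, 1, 115, 1), (119, 2, 115, 1), (119, 3, 115, 1), (119, 4, 115, 1), (119, 5, 115, 1), (120, 0, 116, 1),
   (120, 1, 116, 1), (120, 2, 116, 1), (120, 3, 116, 1), (120, 4, 116, 1), (120, 5, 116, 1), (120, 6, 116, 1),
   (121, 0, 117, 1), (121, 1, 117, 1), (121, 2, 117, 1), (121, 3, 117, 1), (121, 4, 117, 1), (121, 5, 117, 1),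
   (121, 6, 117, 1), (122, 0, 118, 1), (122, 1, 118, 1), (122, 2, 118, 1), (122, 3, 118, 1), (122, 4, 118, 1),
   (122, 5, 118, 1), (122, 6, 118, 1), (123, 0, 122, 3), (123, 1, 122, 3), (123, 2, 122, 3), (123, 3, 122, 3),
   (123, 4, 122, 3), (123, 5, 122, 3), (123, 6, 122, 3), (124, 0, 123, 2), (124, 1, 123, 2), (124, 2, 123, 2),
   (124, 3, 123, 2), (124, 4, 123, 2), (124, 5, 123, 2), (124, 6, 123, 2), (125, 0, 124, 0), (125, 1, 124, 0),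
   (125, 2, 124, 0), (125, 3, 124, 0), (125, 4, 124, 0), (125, 5, 124, 0), (125, 6, 124, 0)]

theorem stepE7 :
    stepCheck chevE7 rootDataE7.α false stepTabE7 = true := by
  decide +kernel

theorem baseE7 : baseCheck chevE7 false = true := by
  decide +kernel

/-- Witnesses for type E8, part 0. -/
def stepTabE8_0 : List (ℕ × ℕ × ℕ × ℕ) :=
  [(122, 6, 121, 7), (122, 7, 120, 6), (124, 5, 123, 6), (124, 6, 121, 5), (125, 5, 124, 7),
   (125, 6, 122, 5), (125, 7, 122, 5), (127, 4, 126, 5), (127, 5, 123, 4), (128, 4, 127, 6),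
   (128, 5, 124, 4), (128, 6, 124, 4), (129, 4, 128, 7), (129, 5, 125, 4), (129, 6, 125, 4),
   (129, 7, 125, 4), (131, 3, 130, 4), (131, 4, 126, 3), (132, 3, 131, 5), (132, 4, 127, 3),
   (132, 5, 127, 3), (133, 3, 132, 6), (133, 4, 128, 3), (133, 5, 128, 3), (133, 6, 128, 3),
   (134, 3, 133, 7), (134, 4, 129, 3), (134, 5, 129, 3), (134, 6, 129, 3), (134, 7, 129, 3),
   (136, 2, 135, 3), (136, 3, 130, 2), (137, 2, 136, 4), (137, 3, 131, 2), (137, 4, 131, 2),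
   (138, 2, 137, 5), (138, 3, 132, 2), (138, 4, 132, 2), (138, 5, 132, 2), (139, 2, 138, 6),
   (139, 3, 133, 2), (139, 4, 133, 2), (139, 5, 133, 2), (139, 6, 133, 2), (140, 2, 139, 7),
   (140, 3, 134, 2), (140, 4, 134, 2), (140, 5, 134, 2), (140, 6, 134, 2), (140, 7, 134, 2),
   (142, 1, 141, 3), (142, 3, 130, 1), (143, 1, 142, 4), (143, 3, 131, 1), (143, 4, 131, 1),
   (144, 1, 143, 5), (144, 3, 132, 1), (144, 4, 132, 1), (144, 5, 132, 1), (145, 1, 144, 6),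
   (145, 3, 133, 1), (145, 4, 133, 1), (145, 5, 133, 1), (145, 6, 133, 1), (146, 1, 145, 7),
   (146, 3, 134, 1), (146, 4, 134, 1), (146, 5, 134, 1), (146, 6, 134, 1), (146, 7, 134, 1),
   (147, 1, 142, 2), (147, 2, 136, 1), (147, 3, 136, 1), (148, 1, 143, 2), (148, 2, 137, 1),
   (148, 3, 137, 1), (148, 4, 137, 1), (149, 1, 144, 2), (149, 2, 138, 1), (149, 3, 138, 1),
   (149, 4, 138, 1), (149, 5, 138, 1), (150, 1, 145, 2), (150, 2, 139, 1), (150, 3, 139, 1),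
   (150, 4, 139, 1), (150, 5, 139, 1), (150, 6, 139, 1), (151, 1, 146, 2), (151, 2, 140, 1),
   (151, 3, 140, 1), (151, 4, 140, 1), (151, 5, 140, 1), (151, 6, 140, 1), (151, 7, 140, 1),
   (152, 1, 148, 3), (152, 2, 148, 3), (152, 3, 148, 3), (152, 4, 148, 3), (153, 1, 149, 3),
   (153, 2, 149, 3), (153, 3, 149, 3), (153, 4, 149, 3), (153, 5, 149, 3), (154, 1, 150, 3),
   (154, 2, 150, 3), (154, 3, 150, 3), (154, 4, 150, 3), (154, 5, 150, 3), (154, 6, 150, 3),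
   (155, 1, 151, 3), (155, 2, 151, 3), (155, 3, 151, 3), (155, 4, 151, 3), (155, 5, 151, 3),
   (155, 6, 151, 3), (155, 7, 151, 3), (156, 1, 153, 4), (156, 2, 153, 4), (156, 3, 153, 4),
   (156, 4, 153, 4), (156, 5, 153, 4), (157, 1, 154, 4), (157, 2, 154, 4), (157, 3, 154, 4),
   (157, 4, 154, 4), (157, 5, 154, 4), (157, 6, 154, 4), (158, 1, 155, 4), (158, 2, 155, 4),
   (158, 3, 155, 4), (158, 4, 155, 4), (158, 5, 155, 4), (158, 6, 155, 4), (158, 7, 155, 4),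
   (159, 1, 157, 5), (159, 2, 157, 5), (159, 3, 157, 5), (159, 4, 157, 5), (159, 5, 157, 5),
   (159, 6, 157, 5), (160, 1, 158, 5), (160, 2, 158, 5), (160, 3, 158, 5), (160, 4, 158, 5),
   (160, 5, 158, 5), (160, 6, 158, 5), (160, 7, 158, 5), (161, 1, 160, 6), (161, 2, 160, 6),
   (161, 3, 160, 6), (161, 4, 160, 6), (161, 5, 160, 6), (161, 6, 160, 6), (161, 7, 160, 6),
   (163, 0, 162, 2), (163, 2, 135, 0), (164, 0, 163, 3), (164, 2, 136, 0), (164, 3, 136, 0),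
   (165, 0, 164, 4), (165, 2, 137, 0), (165, 3, 137, 0), (165, 4, 137, 0), (166, 0, 165, 5),
   (166, 2, 138, 0), (166, 3, 138, 0), (166, 4, 138, 0), (166, 5, 138, 0), (167, 0, 166, 6),
   (167, 2, 139, 0), (167, 3, 139, 0), (167, 4, 139, 0), (167, 5, 139, 0), (167, 6, 139, 0),
   (168, 0, 167, 7), (168, 2, 140, 0)]

/-- Witnesses for type E8, part 1. -/
def stepTabE8_1 : List (ℕ × ℕ × ℕ × ℕ) :=
  [(168, 3, 140, 0), (168, 4, 140, 0), (168, 5, 140, 0), (168, 6, 140, 0), (168, 7, 140, 0),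
   (169, 0, 164, 1), (169, 1, 147, 0), (169, 2, 147, 0), (169, 3, 147, 0), (170, 0, 165, 1),
   (170, 1, 148, 0), (170, 2, 148, 0), (170, 3, 148, 0), (170, 4, 148, 0), (171, 0, 166, 1),
   (171, 1, 149, 0), (171, 2, 149, 0), (171, 3, 149, 0), (171, 4, 149, 0), (171, 5, 149, 0),
   (172, 0, 167, 1), (172, 1, 150, 0), (172, 2, 150, 0), (172, 3, 150, 0), (172, 4, 150, 0),
   (172, 5, 150, 0), (172, 6, 150, 0), (173, 0, 168, 1), (173, 1, 151, 0), (173, 2, 151, 0),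
   (173, 3, 151, 0), (173, 4, 151, 0), (173, 5, 151, 0), (173, 6, 151, 0), (173, 7, 151, 0),
   (174, 0, 170, 3), (174, 1, 152, 0), (174, 2, 152, 0), (174, 3, 152, 0), (174, 4, 152, 0),
   (175, 0, 171, 3), (175, 1, 153, 0), (175, 2, 153, 0), (175, 3, 153, 0), (175, 4, 153, 0),
   (175, 5, 153, 0), (176, 0, 172, 3), (176, 1, 154, 0), (176, 2, 154, 0), (176, 3, 154, 0),
   (176, 4, 154, 0), (176, 5, 154, 0), (176, 6, 154, 0), (177, 0, 173, 3), (177, 1, 155, 0),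
   (177, 2, 155, 0), (177, 3, 155, 0), (177, 4, 155, 0), (177, 5, 155, 0), (177, 6, 155, 0),
   (177, 7, 155, 0), (178, 0, 175, 4), (178, 1, 156, 0), (178, 2, 156, 0), (178, 3, 156, 0),
   (178, 4, 156, 0), (178, 5, 156, 0), (179, 0, 176, 4), (179, 1, 157, 0), (179, 2, 157, 0),
   (179, 3, 157, 0), (179, 4, 157, 0), (179, 5, 157, 0), (179, 6, 157, 0), (180, 0, 177, 4),
   (180, 1, 158, 0), (180, 2, 158, 0), (180, 3, 158, 0), (180, 4, 158, 0), (180, 5, 158, 0),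
   (180, 6, 158, 0), (180, 7, 158, 0), (181, 0, 179, 5), (181, 1, 159, 0), (181, 2, 159, 0),
   (181, 3, 159, 0), (181, 4, 159, 0), (181, 5, 159, 0), (181, 6, 159, 0), (182, 0, 180, 5),
   (182, 1, 160, 0), (182, 2, 160, 0), (182, 3, 160, 0), (182, 4, 160, 0), (182, 5, 160, 0),
   (182, 6, 160, 0), (182, 7, 160, 0), (183, 0, 182, 6), (183, 1, 161, 0), (183, 2, 161, 0),
   (183, 3, 161, 0), (183, 4, 161, 0), (183, 5, 161, 0), (183, 6, 161, 0), (183, 7, 161, 0),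
   (184, 0, 174, 2), (184, 1, 174, 2), (184, 2, 174, 2), (184, 3, 174, 2), (184, 4, 174, 2),
   (185, 0, 175, 2), (185, 1, 175, 2), (185, 2, 175, 2), (185, 3, 175, 2), (185, 4, 175, 2),
   (185, 5, 175, 2), (186, 0, 176, 2), (186, 1, 176, 2), (186, 2, 176, 2), (186, 3, 176, 2),
   (186, 4, 176, 2), (186, 5, 176, 2), (186, 6, 176, 2), (187, 0, 177, 2), (187, 1, 177, 2),
   (187, 2, 177, 2), (187, 3, 177, 2), (187, 4, 177, 2), (187, 5, 177, 2), (187, 6, 177, 2),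
   (187, 7, 177, 2), (188, 0, 178, 2), (188, 1, 178, 2), (188, 2, 178, 2), (188, 3, 178, 2),
   (188, 4, 178, 2), (188, 5, 178, 2), (189, 0, 179, 2), (189, 1, 179, 2), (189, 2, 179, 2),
   (189, 3, 179, 2), (189, 4, 179, 2), (189, 5, 179, 2), (189, 6, 179, 2), (190, 0, 180, 2),
   (190, 1, 180, 2), (190, 2, 180, 2), (190, 3, 180, 2), (190, 4, 180, 2), (190, 5, 180, 2),
   (190, 6, 180, 2), (190, 7, 180, 2), (191, 0, 181, 2), (191, 1, 181, 2), (191, 2, 181, 2),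
   (191, 3, 181, 2), (191, 4, 181, 2), (191, 5, 181, 2), (191, 6, 181, 2), (192, 0, 182, 2),
   (192, 1, 182, 2), (192, 2, 182, 2), (192, 3, 182, 2), (192, 4, 182, 2), (192, 5, 182, 2),
   (192, 6, 182, 2), (192, 7, 182, 2), (193, 0, 183, 2), (193, 1, 183, 2), (193, 2, 183, 2),
   (193, 3, 183, 2), (193, 4, 183, 2), (193, 5, 183, 2), (193, 6, 183, 2), (193, 7, 183, 2),
   (194, 0, 188, 3), (194, 1, 188, 3)]

/-- Witnesses for type E8, part 2. -/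
def stepTabE8_2 : List (ℕ × ℕ × ℕ × ℕ) :=
  [(194, 2, 188, 3), (194, 3, 188, 3), (194, 4, 188, 3), (194, 5, 188, 3), (195, 0, 189, 3),
   (195, 1, 189, 3), (195, 2, 189, 3), (195, 3, 189, 3), (195, 4, 189, 3), (195, 5, 189, 3),
   (195, 6, 189, 3), (196, 0, 190, 3), (196, 1, 190, 3), (196, 2, 190, 3), (196, 3, 190, 3),
   (196, 4, 190, 3), (196, 5, 190, 3), (196, 6, 190, 3), (196, 7, 190, 3), (197, 0, 191, 3),
   (197, 1, 191, 3), (197, 2, 191, 3), (197, 3, 191, 3), (197, 4, 191, 3), (197, 5, 191, 3),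
   (197, 6, 191, 3), (198, 0, 192, 3), (198, 1, 192, 3), (198, 2, 192, 3), (198, 3, 192, 3),
   (198, 4, 192, 3), (198, 5, 192, 3), (198, 6, 192, 3), (198, 7, 192, 3), (199, 0, 193, 3),
   (199, 1, 193, 3), (199, 2, 193, 3), (199, 3, 193, 3), (199, 4, 193, 3), (199, 5, 193, 3),
   (199, 6, 193, 3), (199, 7, 193, 3), (200, 0, 197, 4), (200, 1, 197, 4), (200, 2, 197, 4),
   (200, 3, 197, 4), (200, 4, 197, 4), (200, 5, 197, 4), (200, 6, 197, 4), (201, 0, 198, 4),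
   (201, 1, 198, 4), (201, 2, 198, 4), (201, 3, 198, 4), (201, 4, 198, 4), (201, 5, 198, 4),
   (201, 6, 198, 4), (201, 7, 198, 4), (202, 0, 199, 4), (202, 1, 199, 4), (202, 2, 199, 4),
   (202, 3, 199, 4), (202, 4, 199, 4), (202, 5, 199, 4), (202, 6, 199, 4), (202, 7, 199, 4),
   (203, 0, 202, 5), (203, 1, 202, 5), (203, 2, 202, 5), (203, 3, 202, 5), (203, 4, 202, 5),
   (203, 5, 202, 5), (203, 6, 202, 5), (203, 7, 202, 5), (204, 0, 194, 1), (204, 1, 194, 1),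
   (204, 2, 194, 1), (204, 3, 194, 1), (204, 4, 194, 1), (204, 5, 194, 1), (205, 0, 195, 1),
   (205, 1, 195, 1), (205, 2, 195, 1), (205, 3, 195, 1), (205, 4, 195, 1), (205, 5, 195, 1),
   (205, 6, 195, 1), (206, 0, 196, 1), (206, 1, 196, 1), (206, 2, 196, 1), (206, 3, 196, 1),
   (206, 4, 196, 1), (206, 5, 196, 1), (206, 6, 196, 1), (206, 7, 196, 1), (207, 0, 197, 1),
   (207, 1, 197, 1), (207, 2, 197, 1), (207, 3, 197, 1), (207, 4, 197, 1), (207, 5, 197, 1),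
   (207, 6, 197, 1), (208, 0, 198, 1), (208, 1, 198, 1), (208, 2, 198, 1), (208, 3, 198, 1),
   (208, 4, 198, 1), (208, 5, 198, 1), (208, 6, 198, 1), (208, 7, 198, 1), (209, 0, 199, 1),
   (209, 1, 199, 1), (209, 2, 199, 1), (209, 3, 199, 1), (209, 4, 199, 1), (209, 5, 199, 1),
   (209, 6, 199, 1), (209, 7, 199, 1), (210, 0, 200, 1), (210, 1, 200, 1), (210, 2, 200, 1),
   (210, 3, 200, 1), (210, 4, 200, 1), (210, 5, 200, 1), (210, 6, 200, 1), (211, 0, 201, 1),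
   (211, 1, 201, 1), (211, 2, 201, 1), (211, 3, 201, 1), (211, 4, 201, 1), (211, 5, 201, 1),
   (211, 6, 201, 1), (211, 7, 201, 1), (212, 0, 202, 1), (212, 1, 202, 1), (212, 2, 202, 1),
   (212, 3, 202, 1), (212, 4, 202, 1), (212, 5, 202, 1), (212, 6, 202, 1), (212, 7, 202, 1),
   (213, 0, 203, 1), (213, 1, 203, 1), (213, 2, 203, 1), (213, 3, 203, 1), (213, 4, 203, 1),
   (213, 5, 203, 1), (213, 6, 203, 1), (213, 7, 203, 1), (214, 0, 210, 3), (214, 1, 210, 3),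
   (214, 2, 210, 3), (214, 3, 210, 3), (214, 4, 210, 3), (214, 5, 210, 3), (214, 6, 210, 3),
   (215, 0, 211, 3), (215, 1, 211, 3), (215, 2, 211, 3), (215, 3, 211, 3), (215, 4, 211, 3),
   (215, 5, 211, 3), (215, 6, 211, 3), (215, 7, 211, 3), (216, 0, 212, 3), (216, 1, 212, 3),
   (216, 2, 212, 3), (216, 3, 212, 3), (216, 4, 212, 3), (216, 5, 212, 3), (216, 6, 212, 3),
   (216, 7, 212, 3), (217, 0, 213, 3), (217, 1, 213, 3), (217, 2, 213, 3), (217, 3, 213, 3),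
   (217, 4, 213, 3), (217, 5, 213, 3)]

/-- Witnesses for type E8, part 3. -/
def stepTabE8_3 : List (ℕ × ℕ × ℕ × ℕ) :=
  [(217, 6, 213, 3), (217, 7, 213, 3), (218, 0, 217, 4), (218, 1, 217, 4), (218, 2, 217, 4),
   (218, 3, 217, 4), (218, 4, 217, 4), (218, 5, 217, 4), (218, 6, 217, 4), (218, 7, 217, 4),
   (219, 0, 214, 2), (219, 1, 214, 2), (219, 2, 214, 2), (219, 3, 214, 2), (219, 4, 214, 2),
   (219, 5, 214, 2), (219, 6, 214, 2), (220, 0, 215, 2), (220, 1, 215, 2), (220, 2, 215, 2),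
   (220, 3, 215, 2), (220, 4, 215, 2), (220, 5, 215, 2), (220, 6, 215, 2), (220, 7, 215, 2),
   (221, 0, 216, 2), (221, 1, 216, 2), (221, 2, 216, 2), (221, 3, 216, 2), (221, 4, 216, 2),
   (221, 5, 216, 2), (221, 6, 216, 2), (221, 7, 216, 2), (222, 0, 217, 2), (222, 1, 217, 2),
   (222, 2, 217, 2), (222, 3, 217, 2), (222, 4, 217, 2), (222, 5, 217, 2), (222, 6, 217, 2),
   (222, 7, 217, 2), (223, 0, 218, 2), (223, 1, 218, 2), (223, 2, 218, 2), (223, 3, 218, 2),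
   (223, 4, 218, 2), (223, 5, 218, 2), (223, 6, 218, 2), (223, 7, 218, 2), (224, 0, 223, 3),
   (224, 1, 223, 3), (224, 2, 223, 3), (224, 3, 223, 3), (224, 4, 223, 3), (224, 5, 223, 3),
   (224, 6, 223, 3), (224, 7, 223, 3), (225, 0, 224, 1), (225, 1, 224, 1), (225, 2, 224, 1),
   (225, 3, 224, 1), (225, 4, 224, 1), (225, 5, 224, 1), (225, 6, 224, 1), (225, 7, 224, 1),
   (226, 0, 219, 0), (226, 1, 219, 0), (226, 2, 219, 0), (226, 3, 219, 0), (226, 4, 219, 0),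
   (226, 5, 219, 0), (226, 6, 219, 0), (227, 0, 220, 0), (227, 1, 220, 0), (227, 2, 220, 0),
   (227, 3, 220, 0), (227, 4, 220, 0), (227, 5, 220, 0), (227, 6, 220, 0), (227, 7, 220, 0),
   (228, 0, 221, 0), (228, 1, 221, 0), (228, 2, 221, 0), (228, 3, 221, 0), (228, 4, 221, 0),
   (228, 5, 221, 0), (228, 6, 221, 0), (228, 7, 221, 0), (229, 0, 222, 0), (229, 1, 222, 0),
   (229, 2, 222, 0), (229, 3, 222, 0), (229, 4, 222, 0), (229, 5, 222, 0), (229, 6, 222, 0),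
   (229, 7, 222, 0), (230, 0, 223, 0), (230, 1, 223, 0), (230, 2, 223, 0), (230, 3, 223, 0),
   (230, 4, 223, 0), (230, 5, 223, 0), (230, 6, 223, 0), (230, 7, 223, 0), (231, 0, 224, 0),
   (231, 1, 224, 0), (231, 2, 224, 0), (231, 3, 224, 0), (231, 4, 224, 0), (231, 5, 224, 0),
   (231, 6, 224, 0), (231, 7, 224, 0), (232, 0, 231, 2), (232, 1, 231, 2), (232, 2, 231, 2),
   (232, 3, 231, 2), (232, 4, 231, 2), (232, 5, 231, 2), (232, 6, 231, 2), (232, 7, 231, 2),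
   (233, 0, 225, 0), (233, 1, 225, 0), (233, 2, 225, 0), (233, 3, 225, 0), (233, 4, 225, 0),
   (233, 5, 225, 0), (233, 6, 225, 0), (233, 7, 225, 0), (234, 0, 232, 1), (234, 1, 232, 1),
   (234, 2, 232, 1), (234, 3, 232, 1), (234, 4, 232, 1), (234, 5, 232, 1), (234, 6, 232, 1),
   (234, 7, 232, 1), (235, 0, 234, 3), (235, 1, 234, 3), (235, 2, 234, 3), (235, 3, 234, 3),
   (235, 4, 234, 3), (235, 5, 234, 3), (235, 6, 234, 3), (235, 7, 234, 3), (236, 0, 235, 4),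
   (236, 1, 235, 4), (236, 2, 235, 4), (236, 3, 235, 4), (236, 4, 235, 4), (236, 5, 235, 4),
   (236, 6, 235, 4), (236, 7, 235, 4), (237, 0, 236, 5), (237, 1, 236, 5), (237, 2, 236, 5),
   (237, 3, 236, 5), (237, 4, 236, 5), (237, 5, 236, 5), (237, 6, 236, 5), (237, 7, 236, 5),
   (238, 0, 237, 6), (238, 1, 237, 6), (238, 2, 237, 6), (238, 3, 237, 6), (238, 4, 237, 6),
   (238, 5, 237, 6), (238, 6, 237, 6), (238, 7, 237, 6), (239, 0, 238, 7), (239, 1, 238, 7),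
   (239, 2, 238, 7), (239, 3, 238, 7), (239, 4, 238, 7), (239, 5, 238, 7), (239, 6, 238, 7),
   (239, 7, 238, 7)]

/-- Witnesses for type E8. -/
def stepTabE8 : List (ℕ × ℕ × ℕ × ℕ) :=
  stepTabE8_0 ++ stepTabE8_1 ++ stepTabE8_2 ++ stepTabE8_3

theorem stepE8_0 : stepTabE8_0.all (fun e : ℕ × ℕ × ℕ × ℕ => if h : e.2.1 < chevE8.rank ∧ e.2.2.2 < chevE8.rank then
    stepOK chevE8 rootDataE8.α false e.1 ⟨e.2.1, h.1⟩ e.2.2.1 ⟨e.2.2.2, h.2⟩ else false) = true := by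
  decide +kernel

theorem stepE8_1 : stepTabE8_1.all (fun e : ℕ × ℕ × ℕ × ℕ => if h : e.2.1 < chevE8.rank ∧ e.2.2.2 < chevE8.rank then
    stepOK chevE8 rootDataE8.α false e.1 ⟨e.2.1, h.1⟩ e.2.2.1 ⟨e.2.2.2, h.2⟩ else false) = true := by
  decide +kernel

theorem stepE8_2 : stepTabE8_2.all (fun e : ℕ × ℕ × ℕ × ℕ => if h : e.2.1 < chevE8.rank ∧ e.2.2.2 < chevE8.rank then
    stepOK chevE8 rootDataE8.α false e.1 ⟨e.2.1, h.1⟩ e.2.2.1 ⟨e.2.2.2, h.2⟩ else false) = true := by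
  decide +kernel

theorem stepE8_3 : stepTabE8_3.all (fun e : ℕ × ℕ × ℕ × ℕ => if h : e.2.1 < chevE8.rank ∧ e.2.2.2 < chevE8.rank then
    stepOK chevE8 rootDataE8.α false e.1 ⟨e.2.1, h.1⟩ e.2.2.1 ⟨e.2.2.2, h.2⟩ else false) = true := by
  decide +kernel

theorem stepE8_cover : decide (stepTabE8.map (fun e => (e.1, e.2.1)) =
    ((List.range chevE8.nroots).filter fun r =>
        decide (chevE8.IsPosRoot r) && decide (2 ≤ ht chevE8 rootDataE8.α r)).flatMap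
      fun r => ((List.finRange chevE8.rank).filter fun s => decide (rootDataE8.α r s ≠ 0)).map
        fun s => (r, s.val)) = true := by
  decide +kernel

theorem stepE8 :
    stepCheck chevE8 rootDataE8.α false stepTabE8 = true := by
  rw [stepCheck, Bool.and_eq_true]
  refine ⟨?_, stepE8_cover⟩
  simp only [stepTabE8, List.all_append, Bool.and_eq_true]
  exact ⟨⟨⟨stepE8_0, stepE8_1⟩, stepE8_2⟩, stepE8_3⟩

theorem baseE8 : baseCheck chevE8 false = true := by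
  decide +kernel

end CfsgLib.WeakUnip
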