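import Cfsg.Agent.Lib.ChevStr.InstanceTables
import Cfsg.Agent.Lib.WeakUnip.Levi
import Cfsg.Agent.Lib.WeakUnip.Fill
import Cfsg.Agent.Lib.WeakUnip.Tables

/-! Weakly closed subgroups of `U` in the seven tabulated Chevalley groups. -/

set_option autoImplicit false

namespace CfsgLib.WeakUnip

open Cfsg.Lie CfsgLib.ChevStr

theorem eq_radical {D : ChevalleyDatum} {F : Type*} [Field F] [Fintype F] (C : ChevCore D F)
    {two two' : Bool} (h2 : Fintype.card F ≠ 2)
    (h3 : two = true → Fintype.card F ≠ 3) (h3' : two' = true → Fintype.card F ≠ 3)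
    {tab : List (ℕ × ℕ × ℕ × ℕ)} (hstep : stepCheck D C.R.α two tab = true)
    (hbase : baseCheck D two' = true) {X : Subgroup (GL D.Idx F)} (hXU : X ≤ D.posUnipotent F)
    (hwc : ∀ g ∈ D.group F, X.map (MulAut.conj g).toMonoidHom ≤ D.posUnipotent F →
      X.map (MulAut.conj g).toMonoidHom = X) :
    ∃ J : Set ℕ, (∀ j ∈ J, j < D.rank) ∧ X = D.unipotentRadical F J :=
  ⟨normSet C X, fun _ hj => normSet_lt C X hj, le_antisymm (le_radical C X hXU)
    (radical_le C (borel_le_normalizer C X hXU hwc) hXU h2 h3 h3' hstep hbase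
      (le_radical C X hXU) fun _ hs => not_le_Usub C X hwc hs)⟩

end CfsgLib.WeakUnip
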